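import Cfsg.Agent.H69.SUFourRel

/-!
Two triple windows in an abstract group: adjacency of cosets lying over orthogonal unit vectors.
-/

set_option autoImplicit false
set_option linter.unusedSectionVars false

namespace H41.Phan

open Matrix Cfsg H50 H37 H69.SUW

universe u v

variable {F : Type u} [Field F] {q n : ℕ} {S T : Finset (Fin n)} {D : Type v} [Group D]

/-- Two compatible triples generating the group, with chosen elements moving the last unit vector. -/
structure Ctx (π : D →* SU n F q) (a : Win F q S →* D) (b : Win F q T →* D)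
    (i₁ i₂ i₃ j : Fin n) (r r₂ : Win F q T) : Prop where
  four : Four π a b i₁ i₂ i₃ j
  top : a.range ⊔ b.range = ⊤
  r_mem : r.1 ∈ Win F q {i₃, j}
  r_j : suMat r.1 *ᵥ δ j = δ i₃
  r₂_j : suMat r₂.1 *ᵥ δ j = δ i₂

/-- The unit vector under a coset. -/
noncomputable def vec (π : D →* SU n F q) (j : Fin n) {H : Subgroup D} (x : D ⧸ H) : Fin n → F :=
  suMat (π x.out) *ᵥ δ j

/-- Adjacency of cosets: translates of the pair given by `r`. -/
def Adj (a : Win F q S →* D) (b : Win F q T →* D) (r : Win F q T) (x y : D ⧸ a.range) : Prop :=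
  ∃ g : D, (QuotientGroup.mk g : D ⧸ a.range) = x ∧
    (QuotientGroup.mk (g * b r) : D ⧸ a.range) = y

/-- The two vectors span a non-degenerate subspace. -/
def Good (q : ℕ) (u v : Fin n → F) : Prop :=
  hermForm n F q v u ^ (q + 1) ≠ 1 ∨ v = hermForm n F q v u • u

variable [Fintype F] {π : D →* SU n F q} {a : Win F q S →* D} {b : Win F q T →* D}
  {i₁ i₂ i₃ j : Fin n} {r r₂ : Win F q T}

theorem adj_smul (d : D) {x y : D ⧸ a.range} (h : Adj a b r x y) :
    Adj a b r (d • x) (d • y) := by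
  obtain ⟨g, rfl, rfl⟩ := h
  exact ⟨d * g, by rw [MulAction.Quotient.smul_mk, smul_eq_mul],
    by rw [MulAction.Quotient.smul_mk, smul_eq_mul, mul_assoc]⟩

theorem base_smul (g : D) : g • (QuotientGroup.mk 1 : D ⧸ a.range) = QuotientGroup.mk g := by
  rw [MulAction.Quotient.smul_mk, smul_eq_mul, mul_one]

theorem fix_base (h : Win F q S) :
    a h • (QuotientGroup.mk 1 : D ⧸ a.range) = QuotientGroup.mk 1 := by
  rw [base_smul, QuotientGroup.eq, mul_one]
  exact inv_mem ⟨h, rfl⟩

variable (hF : Fintype.card F = q ^ 2) (C : Ctx π a b i₁ i₂ i₃ j r r₂)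
include hF C

theorem j_notin_S : j ∉ S := by
  simp [C.four.hS, C.four.h1j.symm, C.four.h2j.symm, C.four.h3j.symm]

theorem T_erase : T.erase j ⊆ S := by
  intro x
  simp [C.four.hT, C.four.hS]
  tauto

theorem sub_pair₁₂ : ({i₁, i₂} : Finset (Fin n)) ⊆ S := by simp [C.four.hS, Finset.subset_iff]

theorem sub_pair₂₃ : ({i₂, i₃} : Finset (Fin n)) ⊆ S := by simp [C.four.hS, Finset.subset_iff]

theorem sub_pair₂₃' : ({i₂, i₃} : Finset (Fin n)) ⊆ T := by simp [C.four.hT, Finset.subset_iff]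

theorem card_S : S.card = 3 := by simp [C.four.hS, C.four.h12, C.four.h13, C.four.h23]

theorem card_T : T.card = 3 := by simp [C.four.hT, C.four.h23, C.four.h2j, C.four.h3j]

theorem range_le : ∀ d, π d ∈ Win F q (insert j S) := by
  have h : (⊤ : Subgroup D) ≤ (Win F q (insert j S)).comap π := by
    rw [← C.top]
    refine sup_le ?_ ?_
    · rintro _ ⟨h, rfl⟩
      rw [Subgroup.mem_comap, C.four.hπa]
      exact win_mono (Finset.subset_insert _ _) h.2
    · rintro _ ⟨k, rfl⟩
      rw [Subgroup.mem_comap, C.four.hπb]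
      refine win_mono ?_ k.2
      intro x
      simp [C.four.hT, C.four.hS]
      tauto
  exact fun d => h (Subgroup.mem_top d)

theorem vec_mk (g : D) : vec π j (QuotientGroup.mk g : D ⧸ a.range) = suMat (π g) *ᵥ δ j := by
  obtain ⟨h, hh⟩ := QuotientGroup.mk_out_eq_mul a.range g
  obtain ⟨s, hs⟩ := h.2
  rw [vec, hh, map_mul, ← hs, C.four.hπa, suMat_mulVec_mul, s.2 j (j_notin_S hF C)]

theorem vec_base : vec π j (QuotientGroup.mk 1 : D ⧸ a.range) = δ j := by
  rw [vec_mk hF C, map_one, suMat_one, one_mulVec]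

theorem vec_smul (d : D) (x : D ⧸ a.range) : vec π j (d • x) = suMat (π d) *ᵥ vec π j x := by
  obtain ⟨g, rfl⟩ := QuotientGroup.mk_surjective x
  rw [MulAction.Quotient.smul_mk, smul_eq_mul, vec_mk hF C, vec_mk hF C, map_mul, suMat_mulVec_mul]

theorem supp_vec (x : D ⧸ a.range) : Supp (insert j S) (vec π j x) :=
  supp_image hF (range_le hF C _) (supp_single (Finset.mem_insert_self _ _))

theorem norm_vec (x : D ⧸ a.range) : hermForm n F q (vec π j x) (vec π j x) = 1 := by
  rw [vec, suMat_h, h_single hF]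

theorem vec_b (k : Win F q T) :
    vec π j (QuotientGroup.mk (b k) : D ⧸ a.range) = suMat k.1 *ᵥ δ j := by
  rw [vec_mk hF C, C.four.hπb]

theorem b_eq {k k' : Win F q T} (e : suMat k.1 *ᵥ δ j = suMat k'.1 *ᵥ δ j) :
    (QuotientGroup.mk (b k) : D ⧸ a.range) = QuotientGroup.mk (b k') :=
  b_same hF C.four.hab (T_erase hF C) e

/-- An element of both windows. -/
theorem a_mul_b {s : SU n F q} (hs : s ∈ Win F q {i₂, i₃}) (k : Win F q T) :
    a ⟨s, win_mono (sub_pair₂₃ hF C) hs⟩ * b k =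
      b (⟨s, win_mono (sub_pair₂₃' hF C) hs⟩ * k) :=
  shift hF C.four.hab (T_erase hF C) _ _ k

theorem b_fix {s : Win F q S} (hs : s.1 ∈ Win F q {i₁, i₂}) {m : Win F q T}
    (hm : m.1 ∈ Win F q {i₃, j}) :
    a s • (QuotientGroup.mk (b m) : D ⧸ a.range) = QuotientGroup.mk (b m) := by
  rw [MulAction.Quotient.smul_mk, smul_eq_mul]
  exact fix_comm hF (C.four.hc s m hs hm)

theorem adj_orth {x y : D ⧸ a.range} (h : Adj a b r x y) :
    hermForm n F q (vec π j x) (vec π j y) = 0 := by
  obtain ⟨g, rfl, rfl⟩ := h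
  rw [vec_mk hF C, vec_mk hF C, map_mul, C.four.hπb, suMat_mulVec_mul, C.r_j, suMat_h,
    h_single_single hF, if_neg C.four.h3j.symm]

theorem adj_orth' {x y : D ⧸ a.range} (h : Adj a b r x y) :
    hermForm n F q (vec π j y) (vec π j x) = 0 :=
  (h_eq_zero_comm hF).1 (adj_orth hF C h)

theorem adj_base {y : D ⧸ a.range} (h : Adj a b r (QuotientGroup.mk 1) y) :
    ∃ s : Win F q S, y = QuotientGroup.mk (a s * b r) := by
  obtain ⟨g, hg, rfl⟩ := h
  rw [QuotientGroup.eq, mul_one, inv_mem_iff] at hg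
  obtain ⟨s, rfl⟩ := hg
  exact ⟨s, rfl⟩

theorem base_adj : Adj a b r (QuotientGroup.mk 1) (QuotientGroup.mk (b r)) :=
  ⟨1, rfl, by rw [one_mul]⟩

/-- Neighbours are determined by their vectors. -/
theorem adj_uniq {x y y' : D ⧸ a.range} (h : Adj a b r x y) (h' : Adj a b r x y')
    (e : vec π j y = vec π j y') : y = y' := by
  obtain ⟨g, rfl⟩ := QuotientGroup.mk_surjective x
  have back : g⁻¹ • (QuotientGroup.mk g : D ⧸ a.range) = QuotientGroup.mk 1 := by
    rw [MulAction.Quotient.smul_mk, smul_eq_mul, inv_mul_cancel]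
  have h1 := adj_smul g⁻¹ h
  have h2 := adj_smul g⁻¹ h'
  rw [back] at h1 h2
  obtain ⟨s, hs⟩ := adj_base hF C h1
  obtain ⟨s', hs'⟩ := adj_base hF C h2
  have e' : suMat s.1 *ᵥ δ i₃ = suMat s'.1 *ᵥ δ i₃ := by
    have := congrArg (fun v => suMat (π g⁻¹) *ᵥ v) e
    simp only [← vec_smul hF C, hs, hs', vec_mk hF C, map_mul, C.four.hπa, C.four.hπb,
      suMat_mulVec_mul, C.r_j] at this
    exact this
  have hmem : (s⁻¹ * s').1 ∈ Win F q {i₁, i₂} := by
    refine win_mono ?_ (win_erase (s⁻¹ * s').2 (j := i₃) ?_)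
    · intro x
      simp [C.four.hS]
      tauto
    · rw [Subgroup.coe_mul, Subgroup.coe_inv, suMat_mulVec_mul, ← e', suMat_inv_mulVec]
  have h3 := b_fix hF C hmem C.r_mem
  have h4 := congrArg (fun z => a s • z) h3
  simp only [MulAction.Quotient.smul_mk, smul_eq_mul, map_mul, map_inv, mul_assoc,
    mul_inv_cancel_left] at h4
  apply smul_left_cancel g⁻¹
  rw [hs, hs', h4]

theorem adj_symm {x y : D ⧸ a.range} (h : Adj a b r x y) : Adj a b r y x := by
  obtain ⟨g, rfl, rfl⟩ := h
  set w := suMat r.1 *ᵥ (δ i₃ : Fin n → F) with hw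
  obtain ⟨c, hc, hwc⟩ : ∃ c : F, c ^ (q + 1) = 1 ∧ w = c • δ j := by
    have hsupp : Supp {i₃, j} w := supp_image hF C.r_mem (supp_single (by simp))
    have h3 : w i₃ = 0 := by
      rw [← h_single_right hF w i₃]
      show hermForm n F q w (δ i₃) = 0
      rw [← C.r_j, hw, suMat_h, h_single_single hF, if_neg C.four.h3j]
    have hn : hermForm n F q w w = 1 := by rw [hw, suMat_h, h_single hF]
    refine ⟨w j, ?_, ?_⟩
    · rw [h_pair hF C.four.h3j hsupp, h3, zero_pow (by omega), zero_add] at hn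
      exact hn
    · conv_lhs => rw [supp_pair C.four.h3j hsupp, h3, zero_smul, zero_add]
  have hc0 : c ≠ 0 := fun e => by simp [e] at hc
  have hP : 2 ≤ ({i₂, i₃} : Finset (Fin n)).card := by rw [Finset.card_pair C.four.h23]
  obtain ⟨s, hs, es⟩ := trans_ni hF hP (v := δ i₃) (v' := c⁻¹ • δ i₃) (supp_single (by simp))
    ((supp_single (by simp)).smul _) (by rw [h_smul_single hF, h_single hF, inv_pow, hc, inv_one])
    (by rw [h_single hF]; exact one_ne_zero)
  set S' : Win F q S := ⟨s, win_mono (sub_pair₂₃ hF C) hs⟩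
  refine ⟨g * b r * a S', ?_, ?_⟩
  · rw [QuotientGroup.eq, _root_.mul_inv_rev, mul_assoc, inv_mul_cancel, mul_one]
    exact inv_mem ⟨_, rfl⟩
  · rw [mul_assoc (g * b r), a_mul_b hF C hs, mul_assoc g, ← map_mul]
    have hone : (QuotientGroup.mk (b (r * (⟨s, win_mono (sub_pair₂₃' hF C) hs⟩ * r))) :
        D ⧸ a.range) = QuotientGroup.mk (b 1) := by
      refine b_eq hF C ?_
      simp only [Subgroup.coe_mul, Subgroup.coe_one, suMat_mulVec_mul, suMat_one, one_mulVec, C.r_j,
        es, mulVec_smul]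
      rw [← hw, hwc, smul_smul, inv_mul_cancel₀ hc0, one_smul]
    have := congrArg (fun z => g • z) hone
    simp only [MulAction.Quotient.smul_mk, smul_eq_mul, map_one, mul_one] at this
    exact this

theorem supp_S_of_orth {w : Fin n → F} (hw : Supp (insert j S) w)
    (h : hermForm n F q w (δ j) = 0) : Supp S w := fun x hx => by
  by_cases e : x = j
  · subst e
    exact (h_single_right hF w x).symm.trans h
  · exact hw x (by simp [hx, e])

/-- Every orthogonal unit vector lifts to a neighbour. -/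
theorem adj_exists (x : D ⧸ a.range) {w : Fin n → F} (hw : Supp (insert j S) w)
    (hn : hermForm n F q w w = 1) (ho : hermForm n F q w (vec π j x) = 0) :
    ∃ y, Adj a b r x y ∧ vec π j y = w := by
  obtain ⟨g, rfl⟩ := QuotientGroup.mk_surjective x
  set w' := suMat (π g⁻¹) *ᵥ w
  have hgw : suMat (π g) *ᵥ w' = w := by
    rw [← suMat_mulVec_mul, ← map_mul, mul_inv_cancel, map_one, suMat_one, one_mulVec]
  have hw' : Supp (insert j S) w' := supp_image hF (range_le hF C _) hw
  have ho' : hermForm n F q w' (δ j) = 0 := by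
    rw [← suMat_h (π g), hgw, ← vec_mk hF C]
    exact ho
  obtain ⟨s, hs, es⟩ := trans_ni hF (S := S) (by rw [card_S hF C]; omega)
    (v := δ i₃) (supp_single (by simp [C.four.hS])) (supp_S_of_orth hF C hw' ho')
    (v' := w') (by rw [h_single hF, ← suMat_h (π g), hgw, hn]) (by rw [h_single hF]; exact one_ne_zero)
  refine ⟨QuotientGroup.mk (g * a ⟨s, hs⟩ * b r), ⟨g * a ⟨s, hs⟩, ?_, rfl⟩, ?_⟩
  · rw [QuotientGroup.eq, _root_.mul_inv_rev, mul_assoc, inv_mul_cancel, mul_one]
    exact inv_mem ⟨_, rfl⟩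
  · rw [vec_mk hF C, map_mul, map_mul, C.four.hπa, C.four.hπb, suMat_mulVec_mul, C.r_j,
      suMat_mulVec_mul, es, hgw]

theorem base_adj₂ : Adj a b r (QuotientGroup.mk 1) (QuotientGroup.mk (b r₂)) := by
  obtain ⟨s, hs, es⟩ := trans_ni hF (by rw [Finset.card_pair C.four.h23])
    (S := ({i₂, i₃} : Finset (Fin n))) (v := δ i₃) (v' := δ i₂) (supp_single (by simp))
    (supp_single (by simp)) (by rw [h_single hF, h_single hF]) (by rw [h_single hF]; exact one_ne_zero)
  have h1 := adj_smul (a ⟨s, win_mono (sub_pair₂₃ hF C) hs⟩) (base_adj hF C)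
  rw [fix_base, MulAction.Quotient.smul_mk, smul_eq_mul, a_mul_b hF C hs] at h1
  rw [b_eq hF C (k' := ⟨s, win_mono (sub_pair₂₃' hF C) hs⟩ * r) (by
    rw [C.r₂_j, Subgroup.coe_mul, suMat_mulVec_mul, C.r_j, es])]
  exact h1

theorem nbr_eq {y : D ⧸ a.range} (h : Adj a b r (QuotientGroup.mk 1) y) (s : Win F q S)
    (es : suMat s.1 *ᵥ δ i₂ = vec π j y) : y = a s • QuotientGroup.mk (b r₂) := by
  have h2 := adj_smul (a s) (base_adj₂ hF C)
  rw [fix_base] at h2
  exact adj_uniq hF C h h2 (by rw [vec_smul hF C, vec_b hF C, C.r₂_j, C.four.hπa, es])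

theorem adj_pair {m : Win F q T} (hm : m.1 ∈ Win F q {i₃, j}) :
    Adj a b r (QuotientGroup.mk (b m)) (QuotientGroup.mk (b r₂)) := by
  have h := adj_smul (b m) (base_adj₂ hF C)
  rw [base_smul, MulAction.Quotient.smul_mk, smul_eq_mul, ← map_mul] at h
  rwa [b_eq hF C (k := r₂) (k' := m * r₂) (by
    rw [Subgroup.coe_mul, suMat_mulVec_mul, C.r₂_j, hm i₂ (by simp [C.four.h23, C.four.h2j])])]

theorem pair_supp {w : Fin n → F} (hw : Supp S w) (h3 : w i₃ = 0) : Supp {i₁, i₂} w := fun x hx => by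
  by_cases e : x = i₃
  · rw [e, h3]
  · exact hw x (by simp at hx; simp [C.four.hS, hx, e])

theorem trans₁₂ {w : Fin n → F} (hw : Supp {i₁, i₂} w) (hn : hermForm n F q w w = 1) :
    ∃ s : Win F q S, s.1 ∈ Win F q {i₁, i₂} ∧ suMat s.1 *ᵥ δ i₂ = w := by
  obtain ⟨s, hs, es⟩ := trans_ni hF (by rw [Finset.card_pair C.four.h12])
    (S := ({i₁, i₂} : Finset (Fin n))) (v := δ i₂) (v' := w) (supp_single (by simp)) hw
    (by rw [h_single hF, hn]) (by rw [h_single hF]; exact one_ne_zero)
  exact ⟨⟨s, win_mono (sub_pair₁₂ hF C) hs⟩, hs, es⟩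

theorem tri_base :
    Adj a b r (QuotientGroup.mk (b r)) (QuotientGroup.mk (b r₂)) := by
  have hon : ∀ u v : Fin n, u ≠ v →
      IsON q (![δ u, δ v] : Fin 2 → Fin n → F) := fun u v huv x y => by
    fin_cases x <;> fin_cases y <;> simp [h_single_single hF, huv, huv.symm]
  have hb := hon _ _ C.four.h3j.symm
  have hb' := hon _ _ C.four.h23.symm
  obtain ⟨k, hk, ek⟩ := witt hF (S := T) (IsON.gramND hF hb) (fun x y => (hb x y).trans (hb' x y).symm)
    (fun x => by fin_cases x <;> exact supp_single (by simp [C.four.hT]))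
    (fun x => by fin_cases x <;> exact supp_single (by simp [C.four.hT]))
    (by rw [card_T hF C]; simp)
  have e0 : suMat k *ᵥ δ j = (δ i₃ : Fin n → F) := ek 0
  have e1 : suMat k *ᵥ δ i₃ = (δ i₂ : Fin n → F) := ek 1
  refine ⟨b ⟨k, hk⟩, b_eq hF C ?_, ?_⟩
  · rw [C.r_j]; exact e0
  · rw [← map_mul]
    refine b_eq hF C ?_
    rw [Subgroup.coe_mul, suMat_mulVec_mul, C.r_j, C.r₂_j]
    exact e1

/-- Triangles lift. -/
theorem adj_tri {x y z : D ⧸ a.range} (hy : Adj a b r x y) (hz : Adj a b r x z)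
    (ho : hermForm n F q (vec π j y) (vec π j z) = 0) : Adj a b r y z := by
  obtain ⟨g, rfl, rfl⟩ := hy
  set z' := g⁻¹ • z with hz'
  have hzz : g • z' = z := smul_inv_smul g z
  have h1 := adj_smul g⁻¹ hz
  rw [MulAction.Quotient.smul_mk, smul_eq_mul, inv_mul_cancel, ← hz'] at h1
  have hs : Supp S (vec π j z') := supp_S_of_orth hF C (supp_vec hF C _) (by
    rw [← vec_base hF C]; exact adj_orth' hF C h1)
  have h3 : vec π j z' i₃ = 0 := by
    rw [← h_single_right hF (vec π j z') i₃]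
    show hermForm n F q (vec π j z') (δ i₃) = 0
    rw [hz', vec_smul hF C, ← suMat_h (π g), ← suMat_mulVec_mul, ← map_mul, mul_inv_cancel, map_one,
      suMat_one, one_mulVec, show suMat (π g) *ᵥ δ i₃ = vec π j (QuotientGroup.mk (g * b r) :
        D ⧸ a.range) by rw [vec_mk hF C, map_mul, C.four.hπb, suMat_mulVec_mul, C.r_j]]
    exact (h_eq_zero_comm hF).1 ho
  obtain ⟨s, hs12, es⟩ := trans₁₂ hF C (pair_supp hF C hs h3) (norm_vec hF C _)
  have h4 := adj_smul (a s) (tri_base hF C)
  rw [b_fix hF C hs12 C.r_mem, ← nbr_eq hF C h1 s es] at h4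
  have h5 := adj_smul g h4
  rwa [hzz, MulAction.Quotient.smul_mk, smul_eq_mul] at h5

theorem good_image (d : D) {u v : Fin n → F} (h : Good q u v) :
    Good q (suMat (π d) *ᵥ u) (suMat (π d) *ᵥ v) := by
  unfold Good at h ⊢
  rw [suMat_h, ← mulVec_smul]
  exact h.imp_right fun e => congrArg (fun w => suMat (π d) *ᵥ w) e

/-- The common vertex over a vector spanning a good pair with the base vector. -/
theorem common_base (hq : 3 ≤ q) {v : Fin n → F} (hv : Supp (insert j S) v)
    (hn : hermForm n F q v v = 1) (hg : Good q (δ j) v) :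
    ∃ z : D ⧸ a.range, vec π j z = v ∧ ∀ y, Adj a b r (QuotientGroup.mk 1) y →
      hermForm n F q (vec π j y) v = 0 → Adj a b r y z := by
  have hj := j_notin_S hF C
  have hd := eq_add_single hv hj
  have hp := supp_proj (S := S) v
  set p := proj S v
  have hN : hermForm n F q p p + v j ^ (q + 1) = 1 := by
    rw [← norm_add_single hF hp hj, ← hd, hn]
  have hvd : hermForm n F q v (δ j) = v j := h_single_right hF v j
  have hP : 2 ≤ ({i₃, j} : Finset (Fin n)).card := by rw [Finset.card_pair C.four.h3j]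
  have hpT : ({i₃, j} : Finset (Fin n)) ⊆ T := by simp [C.four.hT, Finset.subset_iff]
  have mover : ∀ y0 : F, y0 ^ (q + 1) = hermForm n F q p p → ∃ m : Win F q T,
      m.1 ∈ Win F q {i₃, j} ∧ suMat m.1 *ᵥ δ j = y0 • δ i₃ + v j • δ j := fun y0 hy0 => by
    obtain ⟨m, hm, em⟩ := trans_ni hF hP (v := δ j) (v' := y0 • δ i₃ + v j • δ j)
      (supp_single (by simp)) (((supp_single (by simp)).smul _).add ((supp_single (by simp)).smul _))
      (by rw [norm_add_single hF ((supp_single (Finset.mem_singleton_self i₃)).smul y0)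
        (by simp [C.four.h3j.symm]), h_smul_single hF, hy0, hN, h_single hF])
      (by rw [h_single hF]; exact one_ne_zero)
    exact ⟨⟨m, win_mono hpT hm⟩, hm, em⟩
  by_cases hp0 : p = 0
  · obtain ⟨m, hm, em⟩ := mover 0 (by rw [hp0, h_zero_left, zero_pow (by omega)])
    rw [zero_smul, zero_add] at em
    refine ⟨QuotientGroup.mk (b m), by rw [vec_b hF C, em, hd, hp0, zero_add]; simp, ?_⟩
    intro y hy _
    have hall : ∀ s : Win F q S,
        a s • (QuotientGroup.mk (b m) : D ⧸ a.range) = QuotientGroup.mk (b m) := by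
      intro s
      obtain ⟨K, hK⟩ := stab_sub (a := a) (b := b) hF m
      rw [MulAction.Quotient.smul_mk, smul_eq_mul]
      refine (hK s.1 s.2).1 ((gen_three hF hq C.four.h12 C.four.h13 C.four.h23).trans
        (sup_le ?_ ?_) (show s.1 ∈ Win F q {i₁, i₂, i₃} by rw [← C.four.hS]; exact s.2))
      · intro g hg
        have hgS := win_mono (sub_pair₁₂ hF C) hg
        exact (hK g hgS).2 (fix_comm hF (C.four.hc ⟨g, hgS⟩ m hg hm))
      · intro g hg
        refine (hK g (win_mono (sub_pair₂₃ hF C) hg)).2 (fix_shift hF C.four.hab (T_erase hF C) _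
          (win_mono (sub_pair₂₃' hF C) hg) ?_)
        rw [em, win_fix_disjoint hF hg ((supp_single (Finset.mem_singleton_self j)).smul _)
          (by simp [C.four.h2j.symm, C.four.h3j.symm])]
    obtain ⟨s, hs, es⟩ := trans_ni hF (S := S) (by rw [card_S hF C]; omega) (v := δ i₂)
      (v' := vec π j y) (supp_single (by simp [C.four.hS]))
      (supp_S_of_orth hF C (supp_vec hF C y) (by rw [← vec_base hF C]; exact adj_orth' hF C hy))
      (by rw [h_single hF, norm_vec hF C]) (by rw [h_single hF]; exact one_ne_zero)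
    have h2 := adj_smul (a ⟨s, hs⟩) (adj_pair hF C hm)
    rw [hall, ← nbr_eq hF C hy ⟨s, hs⟩ es] at h2
    exact adj_symm hF C h2
  · have hpn : hermForm n F q p p ≠ 0 := by
      intro e
      rw [e, zero_add] at hN
      rcases hg with hg | hg
      · rw [hvd] at hg
        exact hg hN
      · refine hp0 ?_
        rw [hvd] at hg
        conv_lhs at hg => rw [hd]
        simpa using hg
    obtain ⟨y0, hy0⟩ := exists_norm_eq hF (h_self_fixed hF p)
    have hy00 : y0 ≠ 0 := fun e => hpn (by rw [← hy0, e, zero_pow (by omega)])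
    obtain ⟨h, hh, eh⟩ := trans_ni hF (S := S) (by rw [card_S hF C]; omega) hp
      ((supp_single (i := i₃) (by simp [C.four.hS])).smul y0) (by rw [h_smul_single hF, hy0]) hpn
    obtain ⟨m, hm, em⟩ := mover y0 hy0
    set H : Win F q S := ⟨h, hh⟩
    have hv' : suMat h *ᵥ v = y0 • δ i₃ + v j • δ j := by
      rw [hd, mulVec_add, eh, mulVec_smul, hh j hj]
      simp [hp j hj]
    refine ⟨a H⁻¹ • QuotientGroup.mk (b m), ?_, ?_⟩
    · rw [vec_smul hF C, vec_b hF C, em, C.four.hπa, ← hv', Subgroup.coe_inv, suMat_inv_mulVec]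
    intro y hy ho
    have hy1 := adj_smul (a H) hy
    rw [fix_base] at hy1
    have hyv : vec π j (a H • y) = suMat h *ᵥ vec π j y := by rw [vec_smul hF C, C.four.hπa]
    set w := vec π j (a H • y) with hw
    have hwS : Supp S w := supp_S_of_orth hF C (supp_vec hF C _) (by
      rw [← vec_base hF C]; exact adj_orth' hF C hy1)
    have hw3 : w i₃ = 0 := by
      have e : hermForm n F q w (suMat h *ᵥ v) = 0 := by rw [hyv, suMat_h, ho]
      rw [hv', h_add_right hF, h_smul_right hF, h_smul_right hF,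
        show hermForm n F q w (δ i₃) = w i₃ from h_single_right hF w i₃,
        show hermForm n F q w (δ j) = w j from h_single_right hF w j, hwS j hj, mul_zero,
        add_zero] at e
      exact (mul_eq_zero.1 e).resolve_left (pow_ne_zero _ hy00)
    obtain ⟨s, hs, es⟩ := trans₁₂ hF C (pair_supp hF C hwS hw3) (norm_vec hF C _)
    have h2 := adj_smul (a s) (adj_pair hF C hm)
    rw [b_fix hF C hs hm, ← nbr_eq hF C hy1 s es] at h2
    have h3 := adj_smul (a H⁻¹) h2
    rw [← mul_smul (a H⁻¹) (a H), ← map_mul, inv_mul_cancel, map_one, one_smul] at h3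
    exact adj_symm hF C h3

/-- A quadrangle with a good diagonal at the middle vertex. -/
theorem quad_good (hq : 3 ≤ q) {x y z y' : D ⧸ a.range} (hyx : Adj a b r y x)
    (hyz : Adj a b r y z) (hy'x : Adj a b r y' x)
    (ho : hermForm n F q (vec π j y') (vec π j z) = 0)
    (hg : Good q (vec π j x) (vec π j z)) : Adj a b r y' z := by
  obtain ⟨g, rfl⟩ := QuotientGroup.mk_surjective x
  have back : g⁻¹ • (QuotientGroup.mk g : D ⧸ a.range) = QuotientGroup.mk 1 := by
    rw [MulAction.Quotient.smul_mk, smul_eq_mul, inv_mul_cancel]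
  have h1 := adj_symm hF C (adj_smul g⁻¹ hyx)
  have h2 := adj_smul g⁻¹ hyz
  have h3 := adj_symm hF C (adj_smul g⁻¹ hy'x)
  rw [back] at h1 h3
  have hg' := good_image hF C g⁻¹ hg
  rw [← vec_smul hF C, ← vec_smul hF C, back, vec_base hF C] at hg'
  obtain ⟨z0, ez, hz0⟩ := common_base hF C hq (supp_vec hF C (g⁻¹ • z)) (norm_vec hF C _) hg'
  have e : g⁻¹ • z = z0 := adj_uniq hF C h2 (hz0 _ h1 (adj_orth hF C h2)) ez.symm
  have h4 := hz0 _ h3 (by rw [vec_smul hF C, vec_smul hF C, suMat_h, ho])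
  rw [← e] at h4
  have h5 := adj_smul g h4
  rwa [smul_inv_smul, smul_inv_smul] at h5

end H41.Phan
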