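import Cfsg.Agent.H41.Phan.FourInj
import Cfsg.Agent.H69.SUStep

/-!
A group generated by compatible images of the triple windows of `SU_N` is an image of `SU_N`,
once the windows of four coordinates are known.
-/

set_option autoImplicit false
set_option linter.unusedSectionVars false

namespace H41.Phan

open Matrix Cfsg H50 H37 H69.SUW

universe u v

variable {F : Type u} [Field F] {q N : ℕ} {G : Type v} [Group G]

/-- The coordinates `a, …, b - 1`. -/
def seg (N a b : ℕ) : Finset (Fin N) := Finset.univ.filter fun i => a ≤ i.1 ∧ i.1 < b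

theorem mem_seg {a b : ℕ} {i : Fin N} : i ∈ seg N a b ↔ a ≤ i.1 ∧ i.1 < b := by simp [seg]

theorem seg_mono {a b c d : ℕ} (h1 : c ≤ a) (h2 : b ≤ d) : seg N a b ⊆ seg N c d := fun i hi => by
  rw [mem_seg] at hi ⊢; omega

theorem seg_univ {b : ℕ} (hb : N ≤ b) : seg N 0 b = Finset.univ := by
  ext i; simp [mem_seg]; omega

theorem seg_card {a b : ℕ} (hb : b ≤ N) : (seg N a b).card = b - a := by
  have h : (seg N a b).map ⟨Fin.val, Fin.val_injective⟩ = Finset.Ico a b := by
    ext x
    simp only [Finset.mem_map, mem_seg, Function.Embedding.coeFn_mk, Finset.mem_Ico]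
    exact ⟨fun ⟨i, hi, e⟩ => e ▸ hi, fun hx => ⟨⟨x, by omega⟩, hx, rfl⟩⟩
  rw [← Finset.card_map, h, Nat.card_Ico]

/-- A hom on a window restricted to a smaller one, applied to an element. -/
theorem hom_congr {S : Finset (Fin N)} (f : Win F q S →* G) {g g' : Win F q S} (h : g.1 = g'.1) :
    f g = f g' := by rw [Subtype.ext h]

variable [Fintype F] (hF : Fintype.card F = q ^ 2)
include hF

/-- Windows on disjoint coordinates commute. -/
theorem win_commute {S T : Finset (Fin N)} (hST : Disjoint S T) {g h : SU N F q}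
    (hg : g ∈ Win F q S) (hh : h ∈ Win F q T) : Commute g h := by
  refine SU_ext (Matrix.ext_of_mulVec_single fun i => ?_)
  show suMat (g * h) *ᵥ δ i = suMat (h * g) *ᵥ δ i
  rw [suMat_mulVec_mul, suMat_mulVec_mul]
  by_cases hi : i ∈ S
  · have h1 : suMat h *ᵥ δ i = δ i := hh i (Finset.disjoint_left.1 hST hi)
    rw [h1, win_fix_disjoint hF hh (supp_image hF hg (supp_single hi)) hST.symm]
  · have h1 : suMat g *ᵥ δ i = δ i := hg i hi
    rw [h1]
    by_cases hi' : i ∈ T
    · rw [win_fix_disjoint hF hg (supp_image hF hh (supp_single hi')) hST]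
    · rw [hh i hi', h1]

theorem win_trivial {S : Finset (Fin N)} (hS : S.card ≤ 1) {g : SU N F q} (hg : g ∈ Win F q S) :
    g = 1 := by
  rcases S.eq_empty_or_nonempty with rfl | ⟨j, hj⟩
  · exact SU_ext (Matrix.ext_of_mulVec_single fun i => by
      show suMat g *ᵥ δ i = suMat (1 : SU N F q) *ᵥ δ i
      rw [hg i (by simp), suMat_one, one_mulVec])
  · refine eq_one_of_single hF (j := j) (win_mono (fun x hx => ?_) hg)
    simp [Finset.card_le_one.1 hS x hx j hj]

/-- An initial segment is generated by its triples. -/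
theorem seg_le_tri (H : Subgroup (SU N F q)) :
    ∀ m, 3 ≤ m → m ≤ N → (∀ a, a + 3 ≤ m → Win F q (seg N a (a + 3)) ≤ H) →
      Win F q (seg N 0 m) ≤ H := by
  intro m hm
  induction m, hm using Nat.le_induction with
  | base => exact fun _ h => h 0 le_rfl
  | succ m hm ih =>
    intro hN h
    obtain ⟨k, rfl⟩ : ∃ k, m = k + 3 := ⟨m - 3, by omega⟩
    refine (gen_big hF (S := seg N 0 (k + 3 + 1)) (i₁ := ⟨k + 1, by omega⟩) (i₂ := ⟨k + 2, by omega⟩)
      (i₃ := ⟨k + 3, by omega⟩) ?_ ?_ ?_ ?_ ?_ ?_ ?_).trans (sup_le ?_ ?_)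
    · rw [seg_card (by omega)]; omega
    iterate 3 (rw [mem_seg]; simp)
    iterate 3 simp [Fin.ext_iff]
    · refine le_trans (win_mono fun i hi => ?_) (ih (by omega) fun a ha => h a (by omega))
      simp only [Finset.mem_erase, mem_seg, ne_eq, Fin.ext_iff] at hi ⊢
      omega
    · refine le_trans (win_mono fun i hi => ?_) (h (k + 1) (by omega))
      simp only [Finset.mem_insert, Finset.mem_singleton, Fin.ext_iff] at hi
      rw [mem_seg]
      omega

omit [Fintype F] hF in
/-- Gluing two windows, given the injectivity of the projection of their graph. -/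
theorem amalg {S T U : Finset (Fin N)} (fa : Win F q S →* G) (fb : Win F q T →* G)
    [Fintype F] (hF : Fintype.card F = q ^ 2) (hSU : S ⊆ U) (hTU : T ⊆ U)
    (hab : ∀ g (hS : g ∈ Win F q S) (hT : g ∈ Win F q T), fa ⟨g, hS⟩ = fb ⟨g, hT⟩)
    (H : ∀ (D : Subgroup (SU N F q × G)) (a : Win F q S →* D) (b : Win F q T →* D),
      (∀ h, (a h).1.1 = h.1) → (∀ k, (b k).1.1 = k.1) →
      (∀ g (hS : g ∈ Win F q S) (hT : g ∈ Win F q T), a ⟨g, hS⟩ = b ⟨g, hT⟩) →
      (∀ (h : Win F q S) (k : Win F q T), Commute h.1 k.1 → Commute (fa h) (fb k) →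
        Commute (a h) (b k)) →
      a.range ⊔ b.range = ⊤ →
      Function.Injective ((MonoidHom.fst (SU N F q) G).comp D.subtype) ∧
        Win F q U ≤ Win F q S ⊔ Win F q T) :
    ∃ Ψ : Win F q U →* G, (∀ h : Win F q S, Ψ ⟨h.1, win_mono hSU h.2⟩ = fa h) ∧
      ∀ k : Win F q T, Ψ ⟨k.1, win_mono hTU k.2⟩ = fb k := by
  set ga : Win F q S →* SU N F q × G := (Win F q S).subtype.prod fa
  set gb : Win F q T →* SU N F q × G := (Win F q T).subtype.prod fb
  set D : Subgroup (SU N F q × G) := ga.range ⊔ gb.range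
  set a : Win F q S →* D := ga.codRestrict D fun h => Subgroup.mem_sup_left ⟨h, rfl⟩
  set b : Win F q T →* D := gb.codRestrict D fun h => Subgroup.mem_sup_right ⟨h, rfl⟩
  have htop : a.range ⊔ b.range = ⊤ := by
    refine Subgroup.map_injective D.subtype_injective ?_
    rw [Subgroup.map_sup, MonoidHom.map_range, MonoidHom.map_range, ← MonoidHom.range_eq_map,
      Subgroup.range_subtype]
    rfl
  obtain ⟨hinj, hgen⟩ := H D a b (fun _ => rfl) (fun _ => rfl)
    (fun g hS hT => Subtype.ext (Prod.ext rfl (hab g hS hT)))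
    (fun h k h1 h2 => Subtype.ext (Prod.ext h1 h2)) htop
  obtain ⟨Ψ, hπ, hA, hB⟩ := exists_ext hF (π := (MonoidHom.fst (SU N F q) G).comp D.subtype)
    (a := a) (b := b) (fun _ => rfl) (fun _ => rfl) hinj hSU hTU hgen
  exact ⟨((MonoidHom.snd (SU N F q) G).comp D.subtype).comp Ψ,
    fun h => congrArg (fun d : D => d.1.2) (hA h), fun k => congrArg (fun d : D => d.1.2) (hB k)⟩

/-- Four consecutive coordinates, for `q ≥ 4`. -/
theorem exists_quad (hq : 4 ≤ q) (ψ : ∀ a : ℕ, Win F q (seg N a (a + 3)) →* G)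
    (hab : ∀ a, a + 4 ≤ N → ∀ g (h : g ∈ Win F q (seg N a (a + 3)))
      (h' : g ∈ Win F q (seg N (a + 1) (a + 1 + 3))), ψ a ⟨g, h⟩ = ψ (a + 1) ⟨g, h'⟩)
    (hc : ∀ a b c, a + 3 ≤ N → b + 3 ≤ N → ∀ (g : Win F q (seg N a (a + 3)))
      (g' : Win F q (seg N b (b + 3))), g.1 ∈ Win F q (seg N 0 c) → g'.1 ∈ Win F q (seg N c N) →
      Commute (ψ a g) (ψ b g'))
    {a : ℕ} (ha : a + 4 ≤ N) :
    ∃ Q : Win F q (seg N a (a + 4)) →* G,
      (∀ g (h : g ∈ Win F q (seg N a (a + 3))) (h' : g ∈ Win F q (seg N a (a + 4))),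
        Q ⟨g, h'⟩ = ψ a ⟨g, h⟩) ∧
      ∀ g (h : g ∈ Win F q (seg N (a + 1) (a + 1 + 3))) (h' : g ∈ Win F q (seg N a (a + 4))),
        Q ⟨g, h'⟩ = ψ (a + 1) ⟨g, h⟩ := by
  obtain ⟨Q, hA, hB⟩ := amalg (ψ a) (ψ (a + 1)) hF (U := seg N a (a + 4))
    (seg_mono le_rfl (by omega)) (seg_mono (by omega) (by omega)) (hab a ha)
    (fun D A B hπa hπb hab' hcomm htop => by
      have hins : insert (⟨a + 3, by omega⟩ : Fin N) (seg N a (a + 3)) = seg N a (a + 4) := by
        ext i
        simp only [Finset.mem_insert, mem_seg, Fin.ext_iff]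
        omega
      rw [← hins]
      refine four_injective (i₁ := ⟨a, by omega⟩) (i₂ := ⟨a + 1, by omega⟩)
        (i₃ := ⟨a + 2, by omega⟩) hF hq
        ⟨?_, ?_, ?_, ?_, ?_, ?_, ?_, ?_, hπa, hπb, hab', fun h k hh hk => ?_⟩ htop
      iterate 6 simp [Fin.ext_iff]
      iterate 2
        ext i
        simp only [Finset.mem_insert, Finset.mem_singleton, mem_seg, Fin.ext_iff]
        omega
      refine hcomm h k (win_commute hF ?_ hh hk) (hc a (a + 1) (a + 2) (by omega) (by omega) h k
        (win_mono ?_ hh) (win_mono ?_ hk))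
      · simp [Finset.disjoint_left, Fin.ext_iff]; omega
      all_goals
        intro i hi
        simp only [Finset.mem_insert, Finset.mem_singleton, Fin.ext_iff] at hi
        rw [mem_seg]
        have := i.2
        omega)
  exact ⟨Q, fun g h h' => hA ⟨g, h⟩, fun g h h' => hB ⟨g, h⟩⟩

/-- The homomorphism on the whole group. -/
theorem build (hN : 4 ≤ N) (ψ : ∀ a : ℕ, Win F q (seg N a (a + 3)) →* G)
    (hgen : ∀ H : Subgroup G, (∀ a, a + 3 ≤ N → (ψ a).range ≤ H) → H = ⊤)
    (hc : ∀ a b c, a + 3 ≤ N → b + 3 ≤ N → ∀ (g : Win F q (seg N a (a + 3)))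
      (g' : Win F q (seg N b (b + 3))), g.1 ∈ Win F q (seg N 0 c) → g'.1 ∈ Win F q (seg N c N) →
      Commute (ψ a g) (ψ b g'))
    (hquad : ∀ a, a + 4 ≤ N → ∃ Q : Win F q (seg N a (a + 4)) →* G,
      (∀ g (h : g ∈ Win F q (seg N a (a + 3))) (h' : g ∈ Win F q (seg N a (a + 4))),
        Q ⟨g, h'⟩ = ψ a ⟨g, h⟩) ∧
      ∀ g (h : g ∈ Win F q (seg N (a + 1) (a + 1 + 3))) (h' : g ∈ Win F q (seg N a (a + 4))),
        Q ⟨g, h'⟩ = ψ (a + 1) ⟨g, h⟩) :
    ∃ f : SU N F q →* G, Function.Surjective f := by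
  have key : ∀ m, 4 ≤ m → m ≤ N → ∃ Ψ : Win F q (seg N 0 m) →* G,
      ∀ a, a + 3 ≤ m → ∀ g (h : g ∈ Win F q (seg N a (a + 3))) (h' : g ∈ Win F q (seg N 0 m)),
        Ψ ⟨g, h'⟩ = ψ a ⟨g, h⟩ := by
    intro m hm
    induction m, hm using Nat.le_induction with
    | base =>
      intro hN4
      obtain ⟨Q, h0, h1⟩ := hquad 0 (by omega)
      refine ⟨Q, fun a ha g h h' => ?_⟩
      rcases (show a = 0 ∨ a = 1 by omega) with rfl | rfl
      · exact h0 g h h'
      · exact h1 g h h'
    | succ m hm ih =>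
      intro hmN
      obtain ⟨Ψ, hΨ⟩ := ih (by omega)
      obtain ⟨k, rfl⟩ : ∃ k, m = k + 3 := ⟨m - 3, by omega⟩
      obtain ⟨Q, h0, h1⟩ := hquad k (by omega)
      set p₁ : Fin N := ⟨k, by omega⟩
      set p₂ : Fin N := ⟨k + 1, by omega⟩
      set p₃ : Fin N := ⟨k + 2, by omega⟩
      set p : Fin N := ⟨k + 3, by omega⟩
      -- commuting of a window below with a window above
      have comm : ∀ (c : ℕ) (b : ℕ), c ≤ k + 2 → b + 3 ≤ k + 4 → k ≤ b →
          ∀ (g : Win F q (seg N 0 (k + 3))) (g' : Win F q (seg N k (k + 4))),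
            g.1 ∈ Win F q (seg N 0 c) → g'.1 ∈ Win F q (seg N b (b + 3)) →
            g'.1 ∈ Win F q (seg N c N) → Commute (Ψ g) (Q g') := by
        intro c b hc' hb hkb g g' hg hgb hgc
        have hQ : Q g' = ψ b ⟨g'.1, hgb⟩ := by
          rcases (show b = k ∨ b = k + 1 by omega) with rfl | rfl
          · exact h0 g'.1 hgb g'.2
          · exact h1 g'.1 hgb g'.2
        rw [hQ]
        set C : Subgroup (SU N F q) :=
          ((Subgroup.centralizer {ψ b ⟨g'.1, hgb⟩}).comap Ψ).map (Win F q (seg N 0 (k + 3))).subtype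
        have hC : ∀ x (hx : x ∈ Win F q (seg N 0 (k + 3))), x ∈ C →
            Commute (Ψ ⟨x, hx⟩) (ψ b ⟨g'.1, hgb⟩) := by
          rintro x hx ⟨y, hy, e⟩
          rw [SetLike.mem_coe, Subgroup.mem_comap, Subgroup.mem_centralizer_singleton_iff] at hy
          rw [hom_congr Ψ (g' := y) e.symm]
          exact hy
        have put : ∀ x (hx : x ∈ Win F q (seg N 0 (k + 3))),
            Commute (Ψ ⟨x, hx⟩) (ψ b ⟨g'.1, hgb⟩) → x ∈ C := fun x hx hcx =>
          ⟨⟨x, hx⟩, by
            rw [SetLike.mem_coe, Subgroup.mem_comap, Subgroup.mem_centralizer_singleton_iff]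
            exact hcx.eq, rfl⟩
        refine hC g.1 g.2 ?_
        rcases Nat.lt_or_ge c 3 with h3 | h3
        · have hgt : g.1 ∈ Win F q (seg N 0 (0 + 3)) := win_mono (seg_mono le_rfl (by omega)) hg
          refine put _ g.2 ?_
          rw [hΨ 0 (by omega) g.1 hgt g.2]
          exact hc 0 b c (by omega) (by omega) _ _ hg hgc
        · refine seg_le_tri hF C c h3 (by omega) (fun a ha x hx => ?_) hg
          have hx' := win_mono (seg_mono (N := N) (Nat.zero_le a) (show a + 3 ≤ k + 3 by omega)) hx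
          refine put x hx' ?_
          rw [hΨ a (by omega) x hx hx']
          exact hc a b c (by omega) (by omega) ⟨x, hx⟩ _
            (win_mono (seg_mono (Nat.zero_le a) ha) hx) hgc
      obtain ⟨Θ, hA, hB⟩ := amalg Ψ Q hF (U := seg N 0 (k + 3 + 1)) (seg_mono le_rfl (by omega))
        (seg_mono (Nat.zero_le k) (by omega)) (fun g hS hT => by
          have hg : g ∈ Win F q (seg N k (k + 3)) := win_mono (fun i hi => by
            simp only [Finset.mem_inter, mem_seg] at hi ⊢
            omega) (win_inter hS hT)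
          rw [hΨ k le_rfl g hg hS, h0 g hg hT])
        (fun D A B hπa hπb hab' hcomm htop => by
          have hins : insert p (seg N 0 (k + 3)) = seg N 0 (k + 3 + 1) := by
            ext i
            simp only [p, Finset.mem_insert, mem_seg, Fin.ext_iff]
            omega
          rw [← hins]
          refine step (i₁ := p₁) (i₂ := p₂) (i₃ := p₃) hF
            ((MonoidHom.fst (SU N F q) G).comp D.subtype) A B ?_ ?_ ?_ ?_ ?_ ?_ ?_ ?_ ?_ hπa hπb
            hab' (fun h g' hh hg' => ?_) (fun h g' hh hg' => ?_) htop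
          · rw [seg_card (by omega)]; omega
          iterate 4 simp [mem_seg, p₁, p₂, p₃, p]
          iterate 3 simp [p₁, p₂, p₃, Fin.ext_iff]
          · ext i
            simp only [p₁, p₂, p₃, p, Finset.mem_insert, Finset.mem_singleton, mem_seg, Fin.ext_iff]
            omega
          · have hh' : h.1 ∈ Win F q (seg N 0 (k + 2)) := win_mono (fun i hi => by
              simp only [p₃, Finset.mem_erase, mem_seg, ne_eq, Fin.ext_iff] at hi ⊢
              omega) hh
            have hg'' : g'.1 ∈ Win F q (seg N (k + 2) (k + 4)) := win_mono (fun i hi => by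
              simp only [p₃, p, Finset.mem_insert, Finset.mem_singleton, Fin.ext_iff] at hi
              rw [mem_seg]; omega) hg'
            refine hcomm h g' (win_commute hF ?_ hh' hg'') (comm (k + 2) (k + 1) le_rfl le_rfl
              (by omega) h g' hh' (win_mono (seg_mono (by omega) (by omega)) hg'')
              (win_mono (seg_mono le_rfl (by omega)) hg''))
            simp only [Finset.disjoint_left, mem_seg]; omega
          · have hh' : h.1 ∈ Win F q (seg N 0 (k + 1)) := win_mono (fun i hi => by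
              simp only [p₂, p₃, Finset.mem_erase, mem_seg, ne_eq, Fin.ext_iff] at hi ⊢
              omega) hh
            have hg'' : g'.1 ∈ Win F q (seg N (k + 1) (k + 4)) := win_mono (fun i hi => by
              simp only [p₂, p₃, p, Finset.mem_insert, Finset.mem_singleton, Fin.ext_iff] at hi
              rw [mem_seg]; omega) hg'
            refine hcomm h g' (win_commute hF ?_ hh' hg'') (comm (k + 1) (k + 1) (by omega) le_rfl
              (by omega) h g' hh' (win_mono (seg_mono le_rfl (by omega)) hg'')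
              (win_mono (seg_mono le_rfl (by omega)) hg''))
            simp only [Finset.disjoint_left, mem_seg]; omega)
      refine ⟨Θ, fun a ha g h h' => ?_⟩
      rcases (show a + 3 ≤ k + 3 ∨ a = k + 1 by omega) with ha' | rfl
      · have hg := win_mono (seg_mono (N := N) (Nat.zero_le a) ha') h
        exact (hA ⟨g, hg⟩).trans (hΨ a ha' g h hg)
      · have hg := win_mono (seg_mono (N := N) (show k ≤ k + 1 by omega)
          (show k + 1 + 3 ≤ k + 4 by omega)) h
        exact (hB ⟨g, hg⟩).trans (h1 g h hg)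
  obtain ⟨Ψ, hΨ⟩ := key N hN le_rfl
  have htop : ∀ g : SU N F q, g ∈ Win F q (seg N 0 N) := fun g => by
    rw [seg_univ le_rfl]; exact win_univ g
  refine ⟨Ψ.comp ((MonoidHom.id _).codRestrict _ htop), MonoidHom.range_eq_top.1 (hgen _ ?_)⟩
  rintro a ha _ ⟨g, rfl⟩
  exact ⟨g.1, hΨ a ha g.1 g.2 (htop g.1)⟩

end H41.Phan
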