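import Cfsg.Prelude.Def_PhanSystems
import Cfsg.Agent.H69.SUStep
import Cfsg.Agent.H50.SCFourSub

/-!
Coordinate embeddings of special unitary groups and their twists by diagonal and field
automorphisms.
-/

set_option autoImplicit false
set_option linter.unusedSectionVars false

namespace H41.Phan

open Matrix Cfsg H50 H37 H69.SUW

universe u

variable {F : Type u} [Field F] {q n m : ℕ}

/-- The indices split along an embedding. -/
noncomputable def splitEquiv (f : Fin m ↪ Fin n) :
    Fin m ⊕ {i : Fin n // i ∉ Set.range f} ≃ Fin n := by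
  classical
  exact (Equiv.sumCongr (Equiv.ofInjective f f.injective) (Equiv.refl _)).trans
    (Equiv.sumCompl (fun i => i ∈ Set.range f))

theorem splitEquiv_inl (f : Fin m ↪ Fin n) (a : Fin m) : splitEquiv f (Sum.inl a) = f a := by
  simp [splitEquiv]

theorem splitEquiv_symm (f : Fin m ↪ Fin n) (a : Fin m) :
    (splitEquiv f).symm (f a) = Sum.inl a := by
  rw [Equiv.symm_apply_eq, splitEquiv_inl]

theorem splitEquiv_symm_out (f : Fin m ↪ Fin n) {i : Fin n} (hi : i ∉ Set.range f) :
    (splitEquiv f).symm i = Sum.inr ⟨i, hi⟩ := by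
  rw [Equiv.symm_apply_eq]
  simp [splitEquiv]

variable [Fintype F] (hF : Fintype.card F = q ^ 2)
include hF

/-- The embedding of `SU_m` into `SU_n` along an embedding of the indices. -/
noncomputable def emb (f : Fin m ↪ Fin n) : SU m F q →* SU n F q := by
  classical
  exact
  { toFun := fun g => mkSU (Matrix.reindex (splitEquiv f) (splitEquiv f) (fromBlocks (suMat g) 0 0 1))
      (SCFour.isIso_of_adj hF (by
        rw [H51.adj_reindex, SCFour.adj_fromBlocks hF]
        simp only [reindex_apply, submatrix_mul_equiv, fromBlocks_multiply, H51.adj_zero,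
          H51.adj_one, Matrix.mul_zero, Matrix.zero_mul, add_zero, zero_add, mul_one,
          SCFour.adj_of_isIso hF (SU_isIso g), fromBlocks_one, submatrix_one_equiv]))
      (by rw [det_reindex_self, det_fromBlocks_zero₂₁, det_one, mul_one]; exact g.1.2)
    map_one' := by
      refine SU_ext ?_
      show Matrix.reindex _ _ (fromBlocks (suMat (1 : SU m F q)) 0 0 1) = 1
      rw [suMat_one, fromBlocks_one, reindex_apply, submatrix_one_equiv]
    map_mul' := fun a b => by
      refine SU_ext ?_
      show Matrix.reindex _ _ (fromBlocks (suMat (a * b)) 0 0 1) =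
        Matrix.reindex _ _ (fromBlocks (suMat a) 0 0 1) *
          Matrix.reindex _ _ (fromBlocks (suMat b) 0 0 1)
      rw [suMat_mul, reindex_apply, reindex_apply, reindex_apply, submatrix_mul_equiv,
        fromBlocks_multiply]
      simp }

open scoped Classical in
theorem suMat_emb (f : Fin m ↪ Fin n) (g : SU m F q) :
    suMat (emb hF f g) =
      Matrix.reindex (splitEquiv f) (splitEquiv f) (fromBlocks (suMat g) 0 0 1) := rfl

theorem emb_apply (f : Fin m ↪ Fin n) (g : SU m F q) (a b : Fin m) :
    suMat (emb hF f g) (f a) (f b) = suMat g a b := by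
  classical
  rw [suMat_emb hF]
  simp [splitEquiv_symm]

theorem emb_apply_left (f : Fin m ↪ Fin n) (g : SU m F q) {i : Fin n} (hi : i ∉ Set.range f)
    (j : Fin n) : suMat (emb hF f g) i j = (1 : Matrix (Fin n) (Fin n) F) i j := by
  classical
  rw [suMat_emb hF]
  by_cases hj : j ∈ Set.range f
  · obtain ⟨b, rfl⟩ := hj
    have : i ≠ f b := fun e => hi ⟨b, e.symm⟩
    simp [splitEquiv_symm, splitEquiv_symm_out f hi, this]
  · simp [splitEquiv_symm_out f hi, splitEquiv_symm_out f hj, Matrix.one_apply, Subtype.ext_iff]

theorem emb_apply_right (f : Fin m ↪ Fin n) (g : SU m F q) (i : Fin n) {j : Fin n}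
    (hj : j ∉ Set.range f) : suMat (emb hF f g) i j = (1 : Matrix (Fin n) (Fin n) F) i j := by
  classical
  by_cases hi : i ∈ Set.range f
  · obtain ⟨a, rfl⟩ := hi
    have : f a ≠ j := fun e => hj ⟨a, e⟩
    rw [suMat_emb hF]
    simp [splitEquiv_symm, splitEquiv_symm_out f hj, this]
  · exact emb_apply_left hF f g hi j

theorem emb_injective (f : Fin m ↪ Fin n) : Function.Injective (emb (q := q) hF f) :=
  fun g g' h => SU_ext (Matrix.ext fun a b => by
    have := congrArg (fun x : SU n F q => suMat x (f a) (f b)) h
    simpa [emb_apply hF] using this)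

omit [Fintype F] hF in
theorem single_mulVec {g : SU n F q} (i j : Fin n) :
    (suMat g *ᵥ δ j) i = suMat g i j := by simp [δ]

theorem emb_fix_iff (f : Fin m ↪ Fin n) (g : SU m F q) (a : Fin m) :
    suMat (emb hF f g) *ᵥ δ (f a) = δ (f a) ↔ suMat g *ᵥ δ a = δ a := by
  constructor
  · intro h
    funext b
    have h2 := congrFun h (f b)
    rw [single_mulVec, emb_apply hF] at h2
    rw [single_mulVec, h2]
    simp [δ, Pi.single_apply]
  · intro h
    funext i
    rw [single_mulVec]
    by_cases hi : i ∈ Set.range f
    · obtain ⟨b, rfl⟩ := hi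
      have h2 := congrFun h b
      rw [single_mulVec] at h2
      rw [emb_apply hF, h2]
      simp [δ, Pi.single_apply]
    · rw [emb_apply_left hF f g hi]
      simp [δ, Pi.single_apply, Matrix.one_apply]

theorem emb_fix_out (f : Fin m ↪ Fin n) (g : SU m F q) {i : Fin n} (hi : i ∉ Set.range f) :
    suMat (emb hF f g) *ᵥ δ i = δ i := by
  funext j
  rw [single_mulVec, emb_apply_right hF f g j hi]
  simp [δ, Pi.single_apply, Matrix.one_apply]

theorem emb_mem_iff (f : Fin m ↪ Fin n) (g : SU m F q) (S : Finset (Fin m)) :
    emb hF f g ∈ Win F q (S.map f) ↔ g ∈ Win F q S := by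
  refine ⟨fun h a ha => (emb_fix_iff hF f g a).1 (h _ (by simpa using ha)), fun h i hi => ?_⟩
  by_cases hir : i ∈ Set.range f
  · obtain ⟨a, rfl⟩ := hir
    exact (emb_fix_iff hF f g a).2 (h a (by simpa using hi))
  · exact emb_fix_out hF f g hir

theorem emb_surj (f : Fin m ↪ Fin n) {g : SU n F q} (hg : g ∈ Win F q (Finset.univ.map f)) :
    ∃ g₀ : SU m F q, emb hF f g₀ = g := by
  classical
  set e := splitEquiv f with he
  set A : Matrix (Fin m) (Fin m) F := Matrix.of fun a b => suMat g (f a) (f b) with hA
  have hout : ∀ i : {i : Fin n // i ∉ Set.range f}, i.1 ∉ Finset.univ.map f := fun i h => by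
    obtain ⟨a, -, e⟩ := Finset.mem_map.1 h
    exact i.2 ⟨a, e⟩
  have hinr : ∀ i : {i : Fin n // i ∉ Set.range f}, e (Sum.inr i) = i.1 := fun i => by
    simp [he, splitEquiv]
  have hM : suMat g = Matrix.reindex e e (fromBlocks A 0 0 1) := by
    ext i j
    obtain ⟨x, rfl⟩ := e.surjective i
    obtain ⟨y, rfl⟩ := e.surjective j
    simp only [reindex_apply, submatrix_apply, Equiv.symm_apply_apply]
    have col : ∀ (i : Fin n) (y : {i : Fin n // i ∉ Set.range f}),
        suMat g i y.1 = (δ y.1 : Fin n → F) i := fun i y => by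
      rw [← single_mulVec, hg _ (hout y)]
    rcases x with a | x <;> rcases y with b | y
    · simp [he, splitEquiv_inl, hA]
    · have : f a ≠ y.1 := fun h => y.2 ⟨a, h⟩
      rw [splitEquiv_inl, hinr, col]
      simp [δ, Pi.single_apply, this]
    · rw [hinr, splitEquiv_inl, ← single_mulVec, win_apply hF hg _ (hout x)]
      have : x.1 ≠ f b := fun h => x.2 ⟨b, h.symm⟩
      simp [δ, Pi.single_apply, this]
    · rw [hinr, hinr, col]
      simp [δ, Pi.single_apply, Matrix.one_apply, Subtype.ext_iff]
  have hd : A.det = 1 := by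
    have h := g.1.2
    change (suMat g).det = 1 at h
    rwa [hM, det_reindex_self, det_fromBlocks_zero₂₁, det_one, mul_one] at h
  have hi : IsIso q A := by
    refine SCFour.isIso_of_adj hF ?_
    have h : H51.adj hF (suMat g) * suMat g = 1 := SCFour.adj_of_isIso hF (SU_isIso g)
    rw [hM, H51.adj_reindex, SCFour.adj_fromBlocks hF, reindex_apply, reindex_apply,
      submatrix_mul_equiv, fromBlocks_multiply] at h
    have h2 := congrArg (fun M : Matrix (Fin n) (Fin n) F => (M.submatrix e e).toBlocks₁₁) h
    simp only [submatrix_submatrix, Equiv.symm_comp_self, submatrix_id_id, toBlocks_fromBlocks₁₁,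
      submatrix_one_equiv] at h2
    rw [H51.adj_zero, Matrix.zero_mul, add_zero] at h2
    rw [h2, ← fromBlocks_one, toBlocks_fromBlocks₁₁]
  exact ⟨mkSU A hi hd, SU_ext hM.symm⟩

/-- `SU_m` as a window of `SU_n`. -/
noncomputable def embIso (f : Fin m ↪ Fin n) :
    SU m F q ≃* Win F q (Finset.univ.map f) :=
  MulEquiv.ofBijective ((emb hF f).codRestrict _ fun g => (emb_mem_iff hF f g _).2 (win_univ g))
    ⟨fun _ _ h => emb_injective hF f (congrArg Subtype.val h), fun g => by
      obtain ⟨g₀, h⟩ := emb_surj hF f g.2
      exact ⟨g₀, Subtype.ext h⟩⟩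

theorem embIso_apply (f : Fin m ↪ Fin n) (g : SU m F q) : (embIso hF f g).1 = emb hF f g := rfl

theorem suBlock_eq (S : Finset (Fin n)) : suBlock n F q (S : Set (Fin n)) = Win F q S := by
  refine le_antisymm ((Subgroup.closure_le _).2 fun g hg i hi => ?_) fun g hg =>
    Subgroup.subset_closure fun i hi => ?_
  · funext j
    rw [single_mulVec]
    by_cases h : j = i
    · subst h
      simpa [δ] using (hg j (by simpa using hi)).1
    · simpa [δ, Pi.single_apply, h] using ((hg i (by simpa using hi)).2 j h).2
  · have hi' : i ∉ S := by simpa using hi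
    refine ⟨?_, fun l hl => ⟨?_, ?_⟩⟩
    · show suMat g i i = 1
      rw [← single_mulVec, hg i hi']
      simp [δ]
    · show suMat g i l = 0
      rw [← single_mulVec, win_apply hF hg _ hi']
      simp [δ, Pi.single_apply, hl.symm]
    · show suMat g l i = 0
      rw [← single_mulVec, hg i hi']
      simp [δ, Pi.single_apply, hl]

/-- The twist of `SU_n` by a diagonal unitary matrix and a field automorphism. -/
def twist (d : Fin n → F) (hd : ∀ i, d i ^ (q + 1) = 1) (σ : F ≃+* F) :
    SU n F q →* SU n F q where
  toFun g := mkSU (diagonal d * (suMat g).map σ * diagonal fun i => d i ^ q)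
    (by
      refine SCFour.isIso_of_adj hF ?_
      have h1 : H51.adj hF ((suMat g).map σ) * (suMat g).map σ = 1 := by
        have h := SCFour.adj_of_isIso hF (SU_isIso g)
        have h2 := congrArg (fun M : Matrix (Fin n) (Fin n) F => M.map σ) h
        simp only [Matrix.map_mul, Matrix.map_one _ (map_zero σ) (map_one σ)] at h2
        rw [show H51.adj hF ((suMat g).map σ) = (H51.adj hF (suMat g)).map σ from
          Matrix.ext fun i j => by simp [map_pow]]
        exact h2
      have hdd : diagonal (fun i => d i ^ q) * diagonal d = (1 : Matrix (Fin n) (Fin n) F) := by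
        rw [diagonal_mul_diagonal, ← diagonal_one]
        congr 1
        funext i
        rw [← pow_succ, hd]
      have hadj : ∀ c : Fin n → F, H51.adj hF (diagonal c) = diagonal fun i => c i ^ q := fun c => by
        ext i j
        by_cases h : i = j
        · subst h; simp
        · simp [diagonal_apply_ne _ h, diagonal_apply_ne _ (Ne.symm h), zero_pow (q_ne_zero hF)]
      rw [H51.adj_mul, H51.adj_mul, hadj, hadj]
      have hqq : (fun i => (d i ^ q) ^ q) = d := funext fun i => pow_q_pow_q hF _
      rw [hqq]
      calc diagonal d * (H51.adj hF ((suMat g).map σ) * diagonal (fun i => d i ^ q)) *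
            (diagonal d * (suMat g).map σ * diagonal fun i => d i ^ q)
          = diagonal d * (H51.adj hF ((suMat g).map σ) * (diagonal (fun i => d i ^ q) * diagonal d) *
            (suMat g).map σ) * diagonal fun i => d i ^ q := by simp only [Matrix.mul_assoc]
        _ = 1 := by
          rw [hdd, Matrix.mul_one, h1, Matrix.mul_one, diagonal_mul_diagonal, ← diagonal_one]
          congr 1
          funext i
          rw [← pow_succ', hd])
    (by
      have h : (suMat g).det = 1 := g.1.2
      rw [det_mul, det_mul, det_diagonal, det_diagonal,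
        show ((suMat g).map σ).det = σ (suMat g).det from (RingEquiv.map_det σ _).symm, h, map_one,
        mul_one, ← Finset.prod_mul_distrib]
      exact Finset.prod_eq_one fun i _ => by rw [← pow_succ', hd])
  map_one' := SU_ext (show diagonal d * (suMat (1 : SU n F q)).map σ * (diagonal fun i => d i ^ q)
      = 1 by
    rw [suMat_one, Matrix.map_one _ (map_zero σ) (map_one σ), Matrix.mul_one, diagonal_mul_diagonal,
      ← diagonal_one]
    congr 1
    funext i
    rw [← pow_succ', hd])
  map_mul' a b := SU_ext (by
    show diagonal d * (suMat (a * b)).map σ * (diagonal fun i => d i ^ q) =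
      (diagonal d * (suMat a).map σ * diagonal fun i => d i ^ q) *
      (diagonal d * (suMat b).map σ * diagonal fun i => d i ^ q)
    have hdd : diagonal (fun i => d i ^ q) * diagonal d = (1 : Matrix (Fin n) (Fin n) F) := by
      rw [diagonal_mul_diagonal, ← diagonal_one]
      congr 1
      funext i
      rw [← pow_succ, hd]
    rw [suMat_mul, Matrix.map_mul]
    calc diagonal d * ((suMat a).map σ * (suMat b).map σ) * (diagonal fun i => d i ^ q)
        = diagonal d * (suMat a).map σ * (diagonal (fun i => d i ^ q) * diagonal d) *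
          (suMat b).map σ * (diagonal fun i => d i ^ q) := by
            rw [hdd, Matrix.mul_one]; simp only [Matrix.mul_assoc]
      _ = _ := by simp only [Matrix.mul_assoc])

theorem twist_apply (d : Fin n → F) (hd : ∀ i, d i ^ (q + 1) = 1) (σ : F ≃+* F) (g : SU n F q)
    (i j : Fin n) : suMat (twist hF d hd σ g) i j = d i * σ (suMat g i j) * d j ^ q := by
  show (diagonal d * (suMat g).map σ * diagonal fun i => d i ^ q) i j = _
  rw [mul_diagonal, diagonal_mul, Matrix.map_apply]

theorem twist_bijective (d : Fin n → F) (hd : ∀ i, d i ^ (q + 1) = 1) (σ : F ≃+* F) :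
    Function.Bijective (twist (q := q) hF d hd σ) := by
  refine Finite.injective_iff_bijective.1 fun g g' h => SU_ext (Matrix.ext fun i j => σ.injective ?_)
  have h2 := congrArg (fun x : SU n F q => suMat x i j) h
  simp only [twist_apply hF] at h2
  have hne : ∀ i, d i ≠ 0 := fun i e => by
    have := hd i
    rw [e, zero_pow (by omega)] at this
    exact zero_ne_one this
  exact mul_left_cancel₀ (hne i) (mul_right_cancel₀ (pow_ne_zero _ (hne j)) h2)

theorem twist_mem_iff (d : Fin n → F) (hd : ∀ i, d i ^ (q + 1) = 1) (σ : F ≃+* F) (g : SU n F q)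
    (S : Finset (Fin n)) : twist hF d hd σ g ∈ Win F q S ↔ g ∈ Win F q S := by
  refine forall₂_congr fun i _ => ?_
  simp only [funext_iff, single_mulVec, twist_apply hF]
  refine forall_congr' fun j => ?_
  have hne : ∀ i, d i ≠ 0 := fun i e => by
    have := hd i
    rw [e, zero_pow (by omega)] at this
    exact zero_ne_one this
  by_cases h : j = i
  · subst h
    simp only [δ, Pi.single_eq_same]
    rw [show d j * σ (suMat g j j) * d j ^ q = σ (suMat g j j) by
      linear_combination σ (suMat g j j) * hd j, map_eq_one_iff σ σ.injective]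
  · simp only [δ, Pi.single_eq_of_ne h, mul_eq_zero, pow_eq_zero_iff (q_ne_zero hF), hne,
      or_false, false_or, map_eq_zero_iff σ σ.injective]

theorem twist_emb (f : Fin m ↪ Fin n) (d : Fin n → F) (hd : ∀ i, d i ^ (q + 1) = 1)
    (σ : F ≃+* F) (g : SU m F q) :
    twist hF d hd σ (emb hF f g) = emb hF f (twist hF (d ∘ f) (fun a => hd (f a)) σ g) := by
  refine SU_ext (Matrix.ext fun i j => ?_)
  show suMat _ i j = suMat _ i j
  have h1 : ∀ i j, d i * σ ((1 : Matrix (Fin n) (Fin n) F) i j) * d j ^ q =
      (1 : Matrix (Fin n) (Fin n) F) i j := fun i j => by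
    by_cases h : i = j
    · subst h; rw [Matrix.one_apply_eq, map_one, mul_one, ← pow_succ', hd]
    · simp [Matrix.one_apply_ne h]
  rw [twist_apply hF]
  by_cases hi : i ∈ Set.range f
  · obtain ⟨a, rfl⟩ := hi
    by_cases hj : j ∈ Set.range f
    · obtain ⟨b, rfl⟩ := hj
      rw [emb_apply hF, emb_apply hF, twist_apply hF]
      rfl
    · rw [emb_apply_right hF f g _ hj, emb_apply_right hF f _ _ hj, h1]
  · rw [emb_apply_left hF f g hi, emb_apply_left hF f _ hi, h1]

end H41.Phan
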