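import Cfsg.Agent.H41.Phan.Quad

/-!
Two triple windows with commuting outer pairs present `SU₄` (`q ≥ 4`).
-/

set_option autoImplicit false
set_option linter.unusedSectionVars false

namespace H41.Phan

open Matrix Cfsg H50 H37 H69.SUW

universe u v

variable {F : Type u} [Field F] {q n : ℕ} {S T : Finset (Fin n)} {D : Type v} [Group D]
  [Fintype F] {π : D →* SU n F q} {a : Win F q S →* D} {b : Win F q T →* D}
  {i₁ i₂ i₃ j : Fin n} {r r₂ : Win F q T}

/-- Within two steps of the base coset. -/
def Near (a : Win F q S →* D) (b : Win F q T →* D) (r : Win F q T) (z : D ⧸ a.range) : Prop :=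
  ∃ y, Adj a b r (QuotientGroup.mk 1) y ∧ Adj a b r y z

variable (hF : Fintype.card F = q ^ 2) (C : Ctx π a b i₁ i₂ i₃ j r r₂) (hq : 4 ≤ q)
include hF C hq

theorem near_base : Near a b r (QuotientGroup.mk 1 : D ⧸ a.range) :=
  ⟨_, base_adj hF C, adj_symm hF C (base_adj hF C)⟩

theorem near_uniq {z z' : D ⧸ a.range} (hz : Near a b r z) (hz' : Near a b r z')
    (e : vec π j z = vec π j z') : z = z' := by
  obtain ⟨y, h1, h2⟩ := hz
  obtain ⟨y', h1', h2'⟩ := hz'
  exact adj_uniq hF C (quad hF C hq (adj_symm hF C h1) h2 (adj_symm hF C h1')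
    (by rw [e]; exact adj_orth hF C h2')) h2' e

/-- One step, when a vertex next to all three exists. -/
theorem near_common {z z' : D ⧸ a.range} (hz : Near a b r z) (h : Adj a b r z z') {w : Fin n → F}
    (hw : Supp (insert j S) w) (hn : hermForm n F q w w = 1) (h0 : hermForm n F q w (δ j) = 0)
    (h1 : hermForm n F q w (vec π j z) = 0) (h2 : hermForm n F q w (vec π j z') = 0) :
    Near a b r z' := by
  obtain ⟨y, hy, hyz⟩ := hz
  obtain ⟨y', hy', ey⟩ := adj_exists hF C (QuotientGroup.mk 1) hw hn (by rw [vec_base hF C]; exact h0)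
  have h3 : Adj a b r y' z := quad hF C hq (adj_symm hF C hy) hyz (adj_symm hF C hy')
    (by rw [ey]; exact h1)
  exact ⟨y', hy', adj_tri hF C (adj_symm hF C h3) h (by rw [ey]; exact h2)⟩

/-- The part of the base vector orthogonal to an edge. -/
theorem perp_edge {z z' : D ⧸ a.range} (h : Adj a b r z z') :
    hermForm n F q (δ j - hermForm n F q (δ j) (vec π j z) • vec π j z -
        hermForm n F q (δ j) (vec π j z') • vec π j z') (vec π j z) = 0 ∧
      hermForm n F q (δ j - hermForm n F q (δ j) (vec π j z) • vec π j z -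
        hermForm n F q (δ j) (vec π j z') • vec π j z') (vec π j z') = 0 ∧
      hermForm n F q (δ j - hermForm n F q (δ j) (vec π j z) • vec π j z -
        hermForm n F q (δ j) (vec π j z') • vec π j z') (δ j - hermForm n F q (δ j) (vec π j z) •
        vec π j z - hermForm n F q (δ j) (vec π j z') • vec π j z') =
      1 - hermForm n F q (δ j) (vec π j z) ^ (q + 1) -
        hermForm n F q (δ j) (vec π j z') ^ (q + 1) := by
  have o := adj_orth hF C h
  have o' := adj_orth' hF C h
  have n1 := norm_vec hF C z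
  have n2 := norm_vec hF C z'
  set p := vec π j z
  set p' := vec π j z'
  set α := hermForm n F q (δ j) p with hα
  set β := hermForm n F q (δ j) p' with hβ
  set i := (δ j : Fin n → F) - α • p - β • p' with hi
  have e1 : hermForm n F q i p = 0 := by
    simp only [hi, h_sub_left, h_smul_left, n1, o', ← hα]
    ring
  have e2 : hermForm n F q i p' = 0 := by
    simp only [hi, h_sub_left, h_smul_left, n2, o, ← hβ]
    ring
  refine ⟨e1, e2, ?_⟩
  have e3 : hermForm n F q i i = hermForm n F q i (δ j - α • p - β • p') := by rw [← hi]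
  rw [e3, h_sub_right hF, h_sub_right hF, h_smul_right hF, h_smul_right hF, e1, e2, mul_zero,
    mul_zero, sub_zero, sub_zero, hi, h_sub_left, h_sub_left, h_smul_left, h_smul_left,
    h_single hF, h_symm hF (δ j) p, h_symm hF (δ j) p', ← hα, ← hβ, ← pow_succ', ← pow_succ']

/-- The frame adapted to an edge. -/
theorem edge_frame {z z' : D ⧸ a.range} (h : Adj a b r z z') :
    ∃ g ∈ Win F q (insert j S), suMat g *ᵥ δ i₃ = vec π j z ∧ suMat g *ᵥ δ j = vec π j z' := by
  have hb : IsON q (![δ i₃, δ j] : Fin 2 → Fin n → F) := fun x y => by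
    fin_cases x <;> fin_cases y <;> simp [h_single_single hF, C.four.h3j, C.four.h3j.symm]
  have hb' : IsON q (![vec π j z, vec π j z'] : Fin 2 → Fin n → F) := fun x y => by
    fin_cases x <;> fin_cases y <;> simp [norm_vec hF C, adj_orth hF C h, adj_orth' hF C h]
  obtain ⟨g, hg, eg⟩ := witt hF (S := insert j S) (IsON.gramND hF hb)
    (fun x y => (hb x y).trans (hb' x y).symm)
    (fun x => by fin_cases x <;> exact supp_single (by simp [C.four.hS]))
    (fun x => by fin_cases x <;> exact supp_vec hF C _)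
    (by simp [Finset.card_insert_of_notMem (j_notin_S hF C), card_S hF C])
  exact ⟨g, hg, eg 0, eg 1⟩

theorem near_step_nd {z z' : D ⧸ a.range} (hz : Near a b r z) (h : Adj a b r z z')
    (hnd : hermForm n F q (δ j) (vec π j z) ^ (q + 1) +
      hermForm n F q (δ j) (vec π j z') ^ (q + 1) ≠ 1) : Near a b r z' := by
  obtain ⟨e1, e2, e3⟩ := perp_edge hF C hq h
  set p := vec π j z
  set p' := vec π j z'
  set i := δ j - hermForm n F q (δ j) p • p - hermForm n F q (δ j) p' • p' with hi
  have hne : hermForm n F q i i ≠ 0 := by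
    rw [e3]
    intro e
    exact hnd (by linear_combination -e)
  obtain ⟨x, hx⟩ := exists_norm_eq hF (c := (hermForm n F q i i)⁻¹)
    (by rw [inv_pow, h_self_fixed hF])
  have hx0 : x ≠ 0 := fun e => by
    rw [e, zero_pow (by omega), zero_eq_inv] at hx
    exact hne hx.symm
  have hon : IsON q (![p, p', x • i] : Fin 3 → Fin n → F) := by
    intro y y'
    fin_cases y <;> fin_cases y' <;>
      simp [p, p', norm_vec hF C, adj_orth hF C h, adj_orth' hF C h, h_smul_left, h_smul_right hF,
        e1, e2, (h_eq_zero_comm hF).1 e1, (h_eq_zero_comm hF).1 e2]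
    rw [← mul_assoc, ← pow_succ, hx, inv_mul_cancel₀ hne]
  have hon' : IsON q (![δ i₁, δ i₂, δ i₃] : Fin 3 → Fin n → F) := by
    intro y y'
    fin_cases y <;> fin_cases y' <;>
      simp [h_single_single hF, C.four.h12, C.four.h13, C.four.h23, C.four.h12.symm,
        C.four.h13.symm, C.four.h23.symm]
  have hU : Supp (insert j S) (δ j : Fin n → F) := supp_single (Finset.mem_insert_self _ _)
  have hp : Supp (insert j S) p := supp_vec hF C z
  have hp' : Supp (insert j S) p' := supp_vec hF C z'
  obtain ⟨g, hg, eg⟩ := witt hF (S := insert j S) (IsON.gramND hF hon')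
    (fun x x' => (hon' x x').trans (hon x x').symm)
    (fun x => by fin_cases x <;> exact supp_single (by simp [C.four.hS]))
    (fun y => by
      fin_cases y
      exacts [hp, hp', ((hU.sub (hp.smul _)).sub (hp'.smul _)).smul _])
    (by simp [Finset.card_insert_of_notMem (j_notin_S hF C), card_S hF C])
  set w := suMat g *ᵥ (δ j : Fin n → F)
  have w1 : hermForm n F q w p = 0 := by
    rw [← show suMat g *ᵥ δ i₁ = p from eg 0, suMat_h, h_single_single hF, if_neg C.four.h1j.symm]
  have w2 : hermForm n F q w p' = 0 := by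
    rw [← show suMat g *ᵥ δ i₂ = p' from eg 1, suMat_h, h_single_single hF, if_neg C.four.h2j.symm]
  have w3 : hermForm n F q w i = 0 := by
    have h3 : hermForm n F q w (x • i) = 0 := by
      rw [← show suMat g *ᵥ δ i₃ = x • i from eg 2, suMat_h, h_single_single hF,
        if_neg C.four.h3j.symm]
    rw [h_smul_right hF, mul_eq_zero, pow_q_eq_zero hF] at h3
    exact h3.resolve_left hx0
  refine near_common hF C hq hz h (w := w) (supp_image hF hg hU) (by rw [suMat_h, h_single hF]) ?_ w1 w2
  rw [hi, h_sub_right hF, h_sub_right hF, h_smul_right hF, h_smul_right hF, w1, w2, mul_zero,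
    mul_zero, sub_zero, sub_zero] at w3
  exact w3

theorem near_step {z z' : D ⧸ a.range} (hz : Near a b r z) (h : Adj a b r z z') :
    Near a b r z' := by
  by_cases hnd : hermForm n F q (δ j) (vec π j z) ^ (q + 1) +
      hermForm n F q (δ j) (vec π j z') ^ (q + 1) ≠ 1
  · exact near_step_nd hF C hq hz h hnd
  push Not at hnd
  obtain ⟨e1, e2, e3⟩ := perp_edge hF C hq h
  obtain ⟨g, hg, g3, gj⟩ := edge_frame hF C hq h
  set p := vec π j z
  set p' := vec π j z'
  set α := hermForm n F q (δ j) p
  set β := hermForm n F q (δ j) p'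
  set i := (δ j : Fin n → F) - α • p - β • p' with hi
  have hU : Supp (insert j S) (δ j : Fin n → F) := supp_single (Finset.mem_insert_self _ _)
  have hp : Supp (insert j S) p := supp_vec hF C z
  have hp' : Supp (insert j S) p' := supp_vec hF C z'
  have hiU : Supp (insert j S) i := (hU.sub (hp.smul _)).sub (hp'.smul _)
  set e := suMat g⁻¹ *ᵥ i
  have hge : suMat g *ᵥ e = i := suMat_mulVec_inv g i
  have he3 : e i₃ = 0 := by
    rw [← h_single_right hF e i₃]
    show hermForm n F q e (δ i₃) = 0
    rw [← suMat_h g, hge, g3]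
    exact e1
  have hej : e j = 0 := by
    rw [← h_single_right hF e j]
    show hermForm n F q e (δ j) = 0
    rw [← suMat_h g, hge, gj]
    exact e2
  have he : Supp {i₁, i₂} e := fun x hx => by
    by_cases x3 : x = i₃
    · rw [x3, he3]
    by_cases xj : x = j
    · rw [xj, hej]
    · refine supp_image hF (inv_mem hg) hiU x ?_
      simp at hx
      simp [C.four.hS, hx, x3, xj]
  by_cases he0 : e = 0
  · refine near_common hF C hq hz h (w := suMat g *ᵥ δ i₁)
      (supp_image hF hg (supp_single (by simp [C.four.hS]))) (by rw [suMat_h, h_single hF]) ?_ ?_ ?_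
    · have : (δ j : Fin n → F) = α • p + β • p' := by
        rw [he0, mulVec_zero, hi, sub_sub, eq_comm, sub_eq_zero] at hge
        exact hge
      rw [this, ← g3, ← gj, h_add_right hF, h_smul_right hF, h_smul_right hF, suMat_h, suMat_h,
        h_single_single hF, h_single_single hF, if_neg C.four.h13, if_neg C.four.h1j, mul_zero,
        mul_zero, add_zero]
    · show hermForm n F q _ p = 0
      rw [← g3, suMat_h, h_single_single hF, if_neg C.four.h13]
    · show hermForm n F q _ p' = 0
      rw [← gj, suMat_h, h_single_single hF, if_neg C.four.h1j]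
  obtain ⟨k, hkq, hk0, hk1, hk2⟩ := exists_fixed_avoid₂ hF hq (α ^ (q + 1)) (β ^ (q + 1))
  obtain ⟨m, hm, em⟩ := pair_move hF C.four.h12 he he0 hkq hk0
  have hmU : m ∈ Win F q (insert j S) :=
    win_mono ((sub_pair₁₂ hF C).trans (Finset.subset_insert _ _)) hm
  set G := g * m⁻¹
  have hG : G ∈ Win F q (insert j S) := mul_mem hg (inv_mem hmU)
  have G3 : suMat G *ᵥ δ i₃ = p := by
    rw [suMat_mulVec_mul, suMat_inv_fix (hm i₃ (by simp [C.four.h13.symm, C.four.h23.symm])), g3]
  have Gj : suMat G *ᵥ δ j = p' := by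
    rw [suMat_mulVec_mul, suMat_inv_fix (hm j (by simp [C.four.h1j.symm, C.four.h2j.symm])), gj]
  have Ge : suMat G *ᵥ (suMat m *ᵥ e) = i := by
    rw [← suMat_mulVec_mul, inv_mul_cancel_right, hge]
  set s := suMat G *ᵥ (δ i₁ : Fin n → F)
  have sp : hermForm n F q s p = 0 := by
    rw [← G3, suMat_h, h_single_single hF, if_neg C.four.h13]
  have sp' : hermForm n F q s p' = 0 := by
    rw [← Gj, suMat_h, h_single_single hF, if_neg C.four.h1j]
  have ns : hermForm n F q (δ j) s ^ (q + 1) = k := by
    have : (δ j : Fin n → F) = i + α • p + β • p' := by rw [hi]; abel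
    rw [this, h_add_left, h_add_left, h_smul_left, h_smul_left, (h_eq_zero_comm hF).1 sp,
      (h_eq_zero_comm hF).1 sp', mul_zero, mul_zero, add_zero, add_zero, ← Ge, suMat_h,
      show hermForm n F q (suMat m *ᵥ e) (δ i₁) = (suMat m *ᵥ e) i₁ from h_single_right hF _ i₁, em]
  obtain ⟨z'', hz'', ez⟩ := adj_exists hF C z (supp_image hF hG (supp_single (by simp [C.four.hS])))
    (by rw [suMat_h, h_single hF]) sp
  have h12 : Adj a b r z'' z' := adj_tri hF C hz'' h (by rw [ez]; exact sp')
  refine near_step_nd hF C hq (near_step_nd hF C hq hz hz'' ?_) h12 ?_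
  · rw [ez, ns]
    exact fun e => hk2 (add_left_cancel (e.trans hnd.symm))
  · rw [ez, ns]
    exact fun e => hk1 (add_right_cancel (e.trans hnd.symm))

theorem near_all : ∀ x : D ⧸ a.range, Near a b r x := by
  have key : ∀ d : D, ∀ x : D ⧸ a.range, (Near a b r x → Near a b r (d • x)) ∧
      (Near a b r x → Near a b r (d⁻¹ • x)) := by
    set M : Set D := Set.range a ∪ b '' {m | m.1 ∈ Win F q {i₃, j}}
    have hbase : ∀ m : Win F q T, m.1 ∈ Win F q {i₃, j} →
        Near a b r (QuotientGroup.mk (b m) : D ⧸ a.range) := fun m hm =>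
      ⟨_, base_adj₂ hF C, adj_symm hF C (adj_pair hF C hm)⟩
    have gen : ∀ d, (∃ h, d = a h) ∨ (∃ m : Win F q T, m.1 ∈ Win F q {i₃, j} ∧ d = b m) →
        ∀ x : D ⧸ a.range, Near a b r x → Near a b r (d • x) := by
      rintro d (⟨h, rfl⟩ | ⟨m, hm, rfl⟩) x ⟨y, hy, hyx⟩
      · refine ⟨a h • y, ?_, adj_smul _ hyx⟩
        have := adj_smul (a h) hy
        rwa [fix_base] at this
      · have h0 := hbase m hm
        have h1 := adj_smul (b m) hy
        rw [base_smul] at h1
        exact near_step hF C hq (near_step hF C hq h0 h1) (adj_smul _ hyx)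
    have hM : Subgroup.closure M = ⊤ := by
      set K := Subgroup.closure M
      rw [eq_top_iff, ← C.top]
      refine sup_le (fun d hd => Subgroup.subset_closure (Or.inl hd)) ?_
      rintro _ ⟨k, rfl⟩
      have hle : Win F q T ≤ (K.comap b).map (Win F q T).subtype := by
        refine fun g hg => ((gen_three hF (by omega) C.four.h23 C.four.h2j C.four.h3j).trans
          (sup_le ?_ ?_)) (show g ∈ Win F q {i₂, i₃, j} by rw [← C.four.hT]; exact hg)
        · intro g hg
          have hgT : g ∈ Win F q T := win_mono (sub_pair₂₃' hF C) hg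
          have hgS : g ∈ Win F q S := win_mono (sub_pair₂₃ hF C) hg
          refine ⟨⟨g, hgT⟩, ?_, rfl⟩
          show b ⟨g, _⟩ ∈ K
          rw [← C.four.hab g hgS hgT]
          exact Subgroup.subset_closure (Or.inl ⟨_, rfl⟩)
        · intro g hg
          exact ⟨⟨g, win_mono (by simp [C.four.hT, Finset.subset_iff]) hg⟩,
            Subgroup.subset_closure (Or.inr ⟨_, hg, rfl⟩), rfl⟩
      obtain ⟨k', hk', e⟩ := hle k.2
      rw [← show k' = k from Subtype.ext e]
      exact hk'
    intro d
    have hd : d ∈ Subgroup.closure M := by rw [hM]; exact Subgroup.mem_top d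
    induction hd using Subgroup.closure_induction with
    | mem d hd =>
      intro x
      rcases hd with ⟨h, rfl⟩ | ⟨m, hm, rfl⟩
      · exact ⟨gen _ (Or.inl ⟨h, rfl⟩) x, gen _ (Or.inl ⟨h⁻¹, (map_inv a h).symm⟩) x⟩
      · exact ⟨gen _ (Or.inr ⟨m, hm, rfl⟩) x,
          gen _ (Or.inr ⟨m⁻¹, inv_mem (show m.1 ∈ Win F q {i₃, j} from hm), (map_inv b m).symm⟩) x⟩
    | one => exact fun x => ⟨fun h => by rwa [one_smul], fun h => by rwa [inv_one, one_smul]⟩
    | mul d d' _ _ hd hd' =>
      refine fun x => ⟨fun h => ?_, fun h => ?_⟩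
      · rw [mul_smul]; exact (hd _).1 ((hd' x).1 h)
      · rw [_root_.mul_inv_rev, mul_smul]; exact (hd' _).2 ((hd x).2 h)
    | inv d _ hd => exact fun x => ⟨(hd x).2, by rw [inv_inv]; exact (hd x).1⟩
  intro x
  obtain ⟨g, rfl⟩ := QuotientGroup.mk_surjective x
  have := (key g _).1 (near_base hF C hq)
  rwa [base_smul] at this

theorem ctx_injective : Function.Injective π := by
  refine (injective_iff_map_eq_one π).2 fun d hd => ?_
  have h1 := near_all hF C hq (QuotientGroup.mk d : D ⧸ a.range)
  have h2 := near_uniq hF C hq h1 (near_base hF C hq) (by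
    rw [vec_mk hF C, vec_base hF C, hd, suMat_one, one_mulVec])
  rw [QuotientGroup.eq, mul_one, inv_mem_iff] at h2
  obtain ⟨h, rfl⟩ := h2
  rw [C.four.hπa] at hd
  rw [show h = 1 from Subtype.ext hd, map_one]

omit C in
/-- `SU₄` from two triples with commuting outer pairs, `q ≥ 4`. -/
theorem four_injective (K : Four π a b i₁ i₂ i₃ j) (htop : a.range ⊔ b.range = ⊤) :
    Function.Injective π ∧ Win F q (insert j S) ≤ Win F q S ⊔ Win F q T := by
  have hpT : ({i₃, j} : Finset (Fin n)) ⊆ T := by simp [K.hT, Finset.subset_iff]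
  obtain ⟨r, hr, er⟩ := trans_ni hF (by rw [Finset.card_pair K.h3j])
    (S := ({i₃, j} : Finset (Fin n))) (v := δ j) (v' := δ i₃) (supp_single (by simp))
    (supp_single (by simp)) (by rw [h_single hF, h_single hF]) (by rw [h_single hF]; exact one_ne_zero)
  obtain ⟨r₂, hr₂, er₂⟩ := trans_ni hF (by simp [K.hT, K.h23, K.h2j, K.h3j])
    (S := T) (v := δ j) (v' := δ i₂) (supp_single (by simp [K.hT]))
    (supp_single (by simp [K.hT])) (by rw [h_single hF, h_single hF])
    (by rw [h_single hF]; exact one_ne_zero)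
  refine ⟨ctx_injective (r := ⟨r, win_mono hpT hr⟩) (r₂ := ⟨r₂, hr₂⟩) hF ⟨K, htop, hr, er, er₂⟩ hq,
    ?_⟩
  have hins : insert j S = ({i₁, i₂, i₃, j} : Finset (Fin n)) := by
    rw [K.hS]; ext x; simp; tauto
  intro g hg
  rw [hins] at hg
  exact ((gen_four hF K.h12 K.h13 K.h23 K.h1j K.h2j K.h3j).trans
    (sup_le_sup (win_mono (by rw [K.hS])) (win_mono hpT))) hg

end H41.Phan
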