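import Cfsg.Agent.H41.Phan.StdPairs
import Cfsg.Agent.H70.Phan.SUThreeStab
import Cfsg.Agent.H70.Phan.SUThreeTorus

/-!
Two `SU_2`s with commuting tori generating an `SU_3` form a standard pair.
-/

set_option autoImplicit false
set_option linter.unusedSectionVars false

namespace H41.Phan

open Matrix Cfsg H50 H37 H69.SUW

universe u v

variable {F : Type u} [Field F] {q : ℕ} {G : Type v} [Group G]
variable [Fintype F] (hF : Fintype.card F = q ^ 2)
include hF

theorem exists_moving (f : Fin 3 → F) (hf : hermForm 3 F q f f = 1) :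
    ∃ g : SU 3 F q, suMat g *ᵥ f ≠ f := by
  obtain ⟨v, hv, hvf⟩ : ∃ v : Fin 3 → F, hermForm 3 F q v v = 1 ∧ v ≠ f := by
    by_cases e : (δ 0 : Fin 3 → F) = f
    · exact ⟨δ 1, h_single hF 1, fun e' => by simpa [δ] using congrFun (e.trans e'.symm) 0⟩
    · exact ⟨δ 0, h_single hF 0, e⟩
  obtain ⟨g, -, hg⟩ := trans_ni hF (S := (Finset.univ : Finset (Fin 3))) (by simp)
    (v := f) (v' := v) (fun i hi => absurd (Finset.mem_univ i) hi)
    (fun i hi => absurd (Finset.mem_univ i) hi) (by rw [hf, hv]) (by rw [hf]; exact one_ne_zero)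
  exact ⟨g, by rw [hg]; exact hvf⟩

theorem win_eq_stab {S : Finset (Fin 3)} {i : Fin 3} (hi : ∀ x, x ∉ S ↔ x = i) (g : SU 3 F q) :
    g ∈ Win F q S ↔ suMat g *ᵥ δ i = δ i :=
  ⟨fun h => h i ((hi i).2 rfl), fun h x hx => by rw [(hi x).1 hx]; exact h⟩

/-- The homomorphism of the pair. -/
theorem hom_of_pair {A B DA DB : Subgroup G} (eA : SU 2 F q ≃* A) (eB : SU 2 F q ≃* B)
    (ε : ↥(A ⊔ B) ≃* SU 3 F q) (hDA : DA ≤ A ∧ IsCyclic DA ∧ Nat.card DA = q + 1)
    (hDB : DB ≤ B ∧ IsCyclic DB ∧ Nat.card DB = q + 1)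
    (hc : ∀ x ∈ DA, ∀ y ∈ DB, x * y = y * x) :
    ∃ Φ : SU 3 F q →* G, Φ.ker ≤ Subgroup.center (SU 3 F q) ∧
      (Win F q (seg 3 0 2)).map Φ = A ∧ (Win F q (seg 3 1 3)).map Φ = B := by
  -- the vector attached to one of the factors
  have fac : ∀ (C : Subgroup G), C ≤ A ⊔ B → (SU 2 F q ≃* C) → ∀ DC : Subgroup G,
      (DC ≤ C ∧ IsCyclic DC ∧ Nat.card DC = q + 1) →
      ∃ f : Fin 3 → F, hermForm 3 F q f f = 1 ∧
        (∀ g, (ε.symm g : G) ∈ C ↔ suMat g *ᵥ f = f) ∧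
        ∃ d : SU 3 F q, suMat d *ᵥ f = f ∧ orderOf d = q + 1 ∧ (ε.symm d : G) ∈ DC := by
    intro C hC eC DC hDC
    set H := (C.subgroupOf (A ⊔ B)).map ε.toMonoidHom
    have hH : ∀ g, g ∈ H ↔ (ε.symm g : G) ∈ C := fun g =>
      ⟨fun ⟨x, hx, e⟩ => by rw [← e]; simpa [Subgroup.mem_subgroupOf] using hx, fun h => ⟨ε.symm g, h, by simp⟩⟩
    obtain ⟨f, hf, hs⟩ := H70.Phan.exists_stab_vec hF H
      ⟨eC.trans ((Subgroup.subgroupOfEquivOfLe hC).symm.trans
        (Subgroup.equivMapOfInjective _ ε.toMonoidHom ε.injective))⟩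
    haveI := hDC.2.1
    obtain ⟨d, hd⟩ := IsCyclic.exists_ofOrder_eq_natCard (α := DC)
    have hdC : (d : G) ∈ A ⊔ B := hC (hDC.1 d.2)
    have he : (ε.symm (ε ⟨d, hdC⟩) : G) = d := by simp
    refine ⟨f, hf, fun g => (hH g).symm.trans (hs g), ε ⟨d, hdC⟩, ?_, ?_, by rw [he]; exact d.2⟩
    · exact (hs _).1 ((hH _).2 (by rw [he]; exact hDC.1 d.2))
    · rw [MulEquiv.orderOf_eq ε, Subgroup.orderOf_mk, Subgroup.orderOf_coe, hd, hDC.2.2]
  obtain ⟨fA, hfA, hsA, dA, hdA, oA, mA⟩ := fac A le_sup_left eA DA hDA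
  obtain ⟨fB, hfB, hsB, dB, hdB, oB, mB⟩ := fac B le_sup_right eB DB hDB
  have horth : hermForm 3 F q fA fB = 0 := by
    refine (H70.Phan.orth_or_prop hF hfA hfB hdA hdB oA oB (ε.symm.injective (Subtype.ext ?_))
      ).resolve_left ?_
    · rw [map_mul, map_mul]
      exact hc _ mA _ mB
    · rintro ⟨c, e⟩
      have hc0 : c ≠ 0 := fun h0 => by
        rw [e, h0, zero_smul, h_zero_left] at hfB
        exact zero_ne_one hfB
      have hAB : A = B := by
        apply le_antisymm <;> intro x hx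
        · have hx' : x ∈ A ⊔ B := Subgroup.mem_sup_left hx
          have h := (hsA (ε ⟨x, hx'⟩)).1 (by simpa using hx)
          simpa using (hsB (ε ⟨x, hx'⟩)).2 (by rw [e, mulVec_smul, h])
        · have hx' : x ∈ A ⊔ B := Subgroup.mem_sup_right hx
          have h := (hsB (ε ⟨x, hx'⟩)).1 (by simpa using hx)
          rw [e, mulVec_smul] at h
          simpa using (hsA (ε ⟨x, hx'⟩)).2 (smul_right_injective _ hc0 h)
      obtain ⟨g, hg⟩ := exists_moving hF fA hfA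
      refine hg ((hsA g).1 ?_)
      have h := (ε.symm g).2
      revert h
      generalize (ε.symm g : G) = x
      intro h
      rwa [← hAB, sup_idem] at h
  obtain ⟨k, -, hk⟩ := witt hF (S := (Finset.univ : Finset (Fin 3)))
    (b := fun i : Fin 2 => (δ (![2, 0] i) : Fin 3 → F)) (b' := ![fA, fB])
    (fun c hc => funext fun i => by
      have := hc i
      simp [Fin.sum_univ_two, h_smul_left, h_single_single hF] at this
      fin_cases i <;> simpa [h_add_left, h_smul_left, h_single_single hF, Fin.sum_univ_two]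
        using this)
    (fun i j => by
      have h' := (h_eq_zero_comm hF).1 horth
      fin_cases i <;> fin_cases j <;> simp [h_single_single hF, hfA, hfB, horth, h'])
    (fun i x hx => absurd (Finset.mem_univ x) hx) (fun i x hx => absurd (Finset.mem_univ x) hx)
    (by simp)
  have hkA : suMat k *ᵥ δ 2 = fA := hk 0
  have hkB : suMat k *ᵥ δ 0 = fB := hk 1
  set Φ : SU 3 F q →* G :=
    (A ⊔ B).subtype.comp (ε.symm.toMonoidHom.comp (MulAut.conj k).toMonoidHom)
  have hinj : Function.Injective Φ := fun x y h =>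
    (MulAut.conj k).injective (ε.symm.injective (Subtype.ext h))
  have himg : ∀ (C : Subgroup G), C ≤ A ⊔ B → ∀ (f : Fin 3 → F) (i : Fin 3) (S : Finset (Fin 3)),
      (∀ g, (ε.symm g : G) ∈ C ↔ suMat g *ᵥ f = f) → suMat k *ᵥ δ i = f →
      (∀ x, x ∉ S ↔ x = i) → (Win F q S).map Φ = C := by
    intro C hC f i S hs hki hS
    have key : ∀ x, suMat (k * x * k⁻¹) *ᵥ f = f ↔ suMat x *ᵥ δ i = δ i := fun x => by
      rw [← hki, ← suMat_mulVec_mul, inv_mul_cancel_right, suMat_mulVec_mul]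
      exact (suMat_injective k).eq_iff
    refine le_antisymm ?_ fun c hc => ?_
    · rintro _ ⟨x, hx, rfl⟩
      exact (hs _).2 ((key x).2 ((win_eq_stab hF hS x).1 hx))
    · refine ⟨k⁻¹ * ε ⟨c, hC hc⟩ * k, (win_eq_stab hF hS _).2 ((key _).1 ?_), ?_⟩
      · refine (hs _).1 ?_
        rw [show k * (k⁻¹ * ε ⟨c, hC hc⟩ * k) * k⁻¹ = ε ⟨c, hC hc⟩ by group]
        simpa using hc
      · show (ε.symm (k * (k⁻¹ * ε ⟨c, hC hc⟩ * k) * k⁻¹) : G) = c
        rw [show k * (k⁻¹ * ε ⟨c, hC hc⟩ * k) * k⁻¹ = ε ⟨c, hC hc⟩ by group]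
        simp
  refine ⟨Φ, by rw [(MonoidHom.ker_eq_bot_iff _).2 hinj]; exact bot_le, ?_, ?_⟩
  · exact himg A le_sup_left fA 2 _ hsA hkA (by intro x; fin_cases x <;> simp [mem_seg])
  · exact himg B le_sup_right fB 0 _ hsB hkB (by intro x; fin_cases x <;> simp [mem_seg])

end H41.Phan
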