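import Cfsg.Agent.H41.Phan.Adj

/-!
All quadrangles of orthogonal unit vectors lift (`q ≥ 4`).
-/

set_option autoImplicit false
set_option linter.unusedSectionVars false

namespace H41.Phan

open Matrix Cfsg H50 H37 H69.SUW

universe u v

variable {F : Type u} [Field F] {q n : ℕ} {S T : Finset (Fin n)} {D : Type v} [Group D]
  [Fintype F] {π : D →* SU n F q} {a : Win F q S →* D} {b : Win F q T →* D}
  {i₁ i₂ i₃ j : Fin n} {r r₂ : Win F q T}

/-- A non-zero fixed element avoiding two values. -/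
theorem exists_fixed_avoid₂ (hF : Fintype.card F = q ^ 2) (hq : 4 ≤ q) (b c : F) :
    ∃ ν : F, ν ^ q = ν ∧ ν ≠ 0 ∧ ν ≠ b ∧ ν ≠ c := by
  classical
  by_contra hno
  push Not at hno
  have hsub : Finset.univ.filter (fun x : F => x ^ q = x) ⊆ {0, b, c} := fun x hx => by
    simp only [Finset.mem_filter, Finset.mem_univ, true_and] at hx
    simp only [Finset.mem_insert, Finset.mem_singleton]
    by_cases h : x = 0
    · exact Or.inl h
    by_cases h' : x = b
    · exact Or.inr (Or.inl h')
    exact Or.inr (Or.inr (hno x hx h h'))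
  have h := (Finset.card_le_card hsub).trans Finset.card_le_three
  rw [← Fintype.card_subtype, ← Nat.card_eq_fintype_card, card_fixed hF] at h
  omega

open Polynomial in
/-- A circle meets two others in at most four points. -/
theorem exists_on_circle (hF : Fintype.card F = q ^ 2) (hq : 4 ≤ q) {k τ K B₁ B₂ : F}
    (hk : k ^ q = k) (hk0 : k ≠ 0) (hτ : τ ^ (q + 1) = 1) (hK : K ≠ 0) :
    ∃ v : F, v ^ (q + 1) = k ∧ (τ * v ^ q + K) ^ (q + 1) ≠ B₁ ∧
      (τ * v ^ q + K) ^ (q + 1) ≠ B₂ := by
  classical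
  by_contra hno
  push Not at hno
  have hτ0 : τ ≠ 0 := fun e => by simp [e] at hτ
  let z : F → F := fun v => τ * v ^ q * K ^ q
  let P : F → F[X] := fun B => X ^ 2 + C (-(B - k - K ^ (q + 1))) * X + C (k * K ^ (q + 1))
  have hP : ∀ B, (P B).natDegree = 2 := fun B => by
    show (X ^ 2 + C (-(B - k - K ^ (q + 1))) * X + C (k * K ^ (q + 1))).natDegree = 2
    compute_degree!
  have hP0 : ∀ B, P B ≠ 0 := fun B h => by have := hP B; rw [h] at this; simp at this
  have hsub : (Finset.univ.filter fun v : F => v ^ (q + 1) = k).image z ⊆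
      (P B₁).roots.toFinset ∪ (P B₂).roots.toFinset := by
    intro w hw
    simp only [Finset.mem_image, Finset.mem_filter, Finset.mem_univ, true_and] at hw
    obtain ⟨v, hv, rfl⟩ := hw
    have key : (P ((τ * v ^ q + K) ^ (q + 1))).IsRoot (z v) := by
      show Polynomial.eval (z v) (P _) = 0
      simp only [P, z, eval_add, eval_mul, eval_pow, eval_X, eval_C]
      have hq2 := pow_q_pow_q hF v
      rw [pow_succ' (τ * v ^ q + K) q, add_pow_q hF, mul_pow τ (v ^ q) q, hq2]
      rw [pow_succ'] at hv hτ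
      rw [pow_succ' K q]
      linear_combination (-(τ * v ^ q * K ^ q) - K * K ^ q) * hτ * v * v ^ q +
        (-(τ * v ^ q * K ^ q) - K * K ^ q) * hv
    rw [Finset.mem_union, Multiset.mem_toFinset, Multiset.mem_toFinset, mem_roots (hP0 _),
      mem_roots (hP0 _)]
    by_cases h : (τ * v ^ q + K) ^ (q + 1) = B₁
    · exact Or.inl (h ▸ key)
    · exact Or.inr (hno v hv h ▸ key)
  have hinj : Set.InjOn z (Finset.univ.filter fun v : F => v ^ (q + 1) = k : Finset F) := by
    intro v _ v' _ e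
    simp only [z, mul_eq_mul_right_iff, mul_eq_mul_left_iff, hτ0, or_false, pow_eq_zero_iff',
      hK, false_and] at e
    exact (pow_q_inj hF).1 e
  have h1 := Finset.card_le_card hsub
  rw [Finset.card_image_of_injOn hinj, ← Fintype.card_subtype, ← Nat.card_eq_fintype_card,
    card_norm_eq hF hk hk0] at h1
  have h2 : ∀ B, (P B).roots.toFinset.card ≤ 2 := fun B =>
    (Multiset.toFinset_card_le _).trans ((card_roots' _).trans (hP B).le)
  have := h1.trans (Finset.card_union_le _ _)
  have := h2 B₁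
  have := h2 B₂
  omega

variable (hF : Fintype.card F = q ^ 2) (C : Ctx π a b i₁ i₂ i₃ j r r₂)
include hF C

theorem fix_R {s : Win F q S} (hs : s.1 ∈ Win F q {i₁, i₂}) :
    a s • (QuotientGroup.mk (b r) : D ⧸ a.range) = QuotientGroup.mk (b r) :=
  b_fix hF C hs C.r_mem

/-- A quadrangle with good diagonal at the ends of the middle segment. -/
theorem quad_good' (hq : 3 ≤ q) {x y z y' : D ⧸ a.range} (hyx : Adj a b r y x)
    (hyz : Adj a b r y z) (hy'x : Adj a b r y' x)
    (ho : hermForm n F q (vec π j y') (vec π j z) = 0)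
    (hg : Good q (vec π j y) (vec π j y')) : Adj a b r y' z :=
  adj_symm hF C (quad_good hF C hq (adj_symm hF C hyx) (adj_symm hF C hy'x) (adj_symm hF C hyz)
    ((h_eq_zero_comm hF).1 ho) hg)

/-- The remaining quadrangle in normal form. -/
theorem quad_core (hq : 4 ≤ q) {z y' : D ⧸ a.range}
    (hz : Adj a b r (QuotientGroup.mk (b r)) z) (hy' : Adj a b r (QuotientGroup.mk 1) y')
    {σ τ γ γ' μ k : F}
    (ec : vec π j z = σ • δ j + γ • δ i₁ + γ' • δ i₂)
    (ed : vec π j y' = τ • δ i₃ + (μ * γ) • δ i₁ + (μ * γ') • δ i₂)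
    (ho : hermForm n F q (vec π j y') (vec π j z) = 0)
    (hσ : σ ^ (q + 1) = 1) (hτ : τ ^ (q + 1) = 1) (hkq : k ^ q = k) (hγ : γ ^ (q + 1) = k)
    (hγ' : γ' ^ (q + 1) = -k) (hk0 : k ≠ 0) (hk1 : k ≠ 1) (hμ : μ ≠ 0)
    (hl : μ ^ (q + 1) * k ≠ 1) : Adj a b r y' z := by
  have hq3 : 3 ≤ q := by omega
  have h12 := C.four.h12
  have h13 := C.four.h13
  have h23 := C.four.h23
  have h1j := C.four.h1j
  have h2j := C.four.h2j
  have h3j := C.four.h3j
  have hU : ∀ x ∈ ({i₁, i₂, i₃, j} : Finset (Fin n)), x ∈ insert j S := fun x hx => by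
    simp at hx; simp [C.four.hS]; tauto
  have hX : Supp (insert j S) (δ i₁ : Fin n → F) := supp_single (hU _ (by simp))
  have hγ0 : γ' ≠ 0 := fun e => by
    rw [e, zero_pow (by omega), zero_eq_neg] at hγ'
    exact hk0 hγ'
  have hcoord : ∀ (x : Fin n) (w : Fin n → F), hermForm n F q w (δ x) = w x := fun x w =>
    h_single_right hF w x
  -- the new vertex next to the first two
  obtain ⟨X, hXadj, hXv⟩ := adj_exists hF C (QuotientGroup.mk 1) hX (h_single hF _) (by
    rw [vec_base hF C, h_single_single hF, if_neg h1j])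
  have hRX : Adj a b r (QuotientGroup.mk (b r)) X := adj_tri hF C (base_adj hF C) hXadj (by
    rw [vec_b hF C, C.r_j, hXv, h_single_single hF, if_neg h13.symm])
  -- the next one
  set K := μ * γ'
  have hK : K ≠ 0 := mul_ne_zero hμ hγ0
  obtain ⟨v, hv, hv1, hv2⟩ := exists_on_circle hF hq (B₁ := 1) (B₂ := 1 - μ ^ (q + 1) * k) hkq hk0
    hτ hK
  set u := -(γ' ^ q * σ)
  set Y : Fin n → F := u • δ j + v • δ i₃ + (1 : F) • δ i₂ with hYdef
  have hYj : Y j = u := by simp [hYdef, h2j.symm, h3j.symm]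
  have hY3 : Y i₃ = v := by simp [hYdef, h23.symm, h3j]
  have hY2 : Y i₂ = 1 := by simp [hYdef, h23, h2j]
  have hY1 : Y i₁ = 0 := by simp [hYdef, h12, h13, h1j]
  have hYU : Supp (insert j S) Y :=
    (((supp_single (hU _ (by simp))).smul _).add ((supp_single (hU _ (by simp))).smul _)).add
      ((supp_single (hU _ (by simp))).smul _)
  have hYn : hermForm n F q Y Y = 1 := by
    suffices h : hermForm n F q Y (u • δ j + v • δ i₃ + (1 : F) • δ i₂) = 1 by rwa [← hYdef] at h
    simp only [h_add_right hF, h_smul_right hF, hcoord, hYj, hY3, hY2, one_pow]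
    have hu : u ^ q * u = -k := by
      rw [← pow_succ]
      simp only [u]
      rw [← neg_one_mul, mul_pow, mul_pow, hσ, mul_one, pow_succ (-1 : F), neg_pow_q hF, one_pow,
        ← pow_mul, mul_comm q (q + 1), pow_mul, hγ', neg_pow_q hF, hkq]
      ring
    rw [pow_succ] at hv
    linear_combination hu + hv
  obtain ⟨Yx, hXY, hYv⟩ := adj_exists hF C X hYU hYn (by rw [hXv, hcoord, hY1])
  have hYz : Adj a b r Yx z := by
    refine quad_good hF C hq3 hRX hz (adj_symm hF C hXY) ?_ ?_
    · rw [hYv, ec]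
      simp only [h_add_right hF, h_smul_right hF, hcoord, hYj, hY1, hY2]
      rw [pow_succ] at hσ
      simp only [u]
      linear_combination (-γ' ^ q) * hσ
    · refine Or.inl ?_
      rw [hXv, hcoord, ec]
      simp [h12, h1j, hγ, hk1]
  -- the fourth vector
  set d := vec π j y' with hd
  have hdj : d j = 0 := by rw [ed]; simp [h1j.symm, h2j.symm, h3j.symm]
  have hd1 : d i₁ = μ * γ := by rw [ed]; simp [h12, h13]
  have hdY : hermForm n F q d Y = τ * v ^ q + K := by
    rw [hYdef]
    simp only [h_add_right hF, h_smul_right hF, hcoord, hdj, one_pow]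
    rw [ed]
    simp [h12.symm, h13.symm, h23, h23.symm, K]
    ring
  set d1 := d - hermForm n F q d (δ i₁) • δ i₁ - hermForm n F q d Y • Y with hd1def
  have hXY0 : hermForm n F q (δ i₁) Y = 0 := (h_eq_zero_comm hF).1 (by rw [hcoord, hY1])
  have hY0X : hermForm n F q Y (δ i₁) = 0 := (h_eq_zero_comm hF).1 hXY0
  have hd1X : hermForm n F q d1 (δ i₁) = 0 := by
    simp only [hd1def, h_sub_left, h_smul_left, hY0X, h_single hF]
    ring
  have hd1Y : hermForm n F q d1 Y = 0 := by
    simp only [hd1def, h_sub_left, h_smul_left, hXY0, hYn]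
    ring
  have hd1n : hermForm n F q d1 d1 = 1 - μ ^ (q + 1) * k - (τ * v ^ q + K) ^ (q + 1) := by
    have e : hermForm n F q d1 d1 = hermForm n F q d1
        (d - hermForm n F q d (δ i₁) • δ i₁ - hermForm n F q d Y • Y) := by rw [← hd1def]
    rw [e, h_sub_right hF, h_sub_right hF, h_smul_right hF, h_smul_right hF, hd1X, hd1Y, mul_zero,
      mul_zero, sub_zero, sub_zero, hd1def, h_sub_left, h_sub_left, h_smul_left, h_smul_left,
      h_symm hF d (δ i₁), h_symm hF d Y, hdY, norm_vec hF C, hcoord, hd1, ← pow_succ', ← pow_succ',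
      mul_pow, hγ]
  obtain ⟨e, he⟩ := exists_norm_eq hF (c := (hermForm n F q d1 d1)⁻¹)
    (by rw [inv_pow, h_self_fixed hF])
  have hne : hermForm n F q d1 d1 ≠ 0 := by
    rw [hd1n]
    intro h
    exact hv2 (by linear_combination -h)
  have he0 : e ≠ 0 := fun h => by
    rw [h, zero_pow (by omega), zero_eq_inv] at he
    exact hne he.symm
  have hd1U : Supp (insert j S) d1 := ((supp_vec hF C y').sub (hX.smul _)).sub (hYU.smul _)
  have hon : IsON q (![δ i₁, Y, e • d1] : Fin 3 → Fin n → F) := by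
    intro x x'
    fin_cases x <;> fin_cases x' <;>
      simp [h_single_single hF, hXY0, hY0X, hYn, h_smul_left, h_smul_right hF, hd1X, hd1Y,
        (h_eq_zero_comm hF).1 hd1X, (h_eq_zero_comm hF).1 hd1Y]
    rw [← mul_assoc, ← pow_succ, he, inv_mul_cancel₀ hne]
  have hon' : IsON q (![δ i₁, δ i₂, δ i₃] : Fin 3 → Fin n → F) := by
    intro x x'
    fin_cases x <;> fin_cases x' <;>
      simp [h_single_single hF, h12, h13, h23, h12.symm, h13.symm, h23.symm]
  obtain ⟨g, hg, eg⟩ := witt hF (S := insert j S) (IsON.gramND hF hon')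
    (fun x x' => (hon' x x').trans (hon x x').symm)
    (fun x => by fin_cases x <;> exact supp_single (hU _ (by simp)))
    (fun x => by fin_cases x; exacts [hX, hYU, hd1U.smul _])
    (by simp [Finset.card_insert_of_notMem (j_notin_S hF C), card_S hF C])
  set w := suMat g *ᵥ (δ j : Fin n → F)
  have hwU : Supp (insert j S) w := supp_image hF hg (supp_single (Finset.mem_insert_self _ _))
  have hwX : hermForm n F q w (δ i₁) = 0 := by
    rw [← show suMat g *ᵥ δ i₁ = (δ i₁ : Fin n → F) from eg 0, suMat_h, h_single_single hF,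
      if_neg h1j.symm]
  have hwY : hermForm n F q w Y = 0 := by
    rw [← show suMat g *ᵥ δ i₂ = Y from eg 1, suMat_h, h_single_single hF, if_neg h2j.symm]
  have hwd : hermForm n F q w d = 0 := by
    have h3 : hermForm n F q w (e • d1) = 0 := by
      rw [← show suMat g *ᵥ δ i₃ = e • d1 from eg 2, suMat_h, h_single_single hF, if_neg h3j.symm]
    rw [h_smul_right hF, mul_eq_zero, pow_q_eq_zero hF] at h3
    have h4 := h3.resolve_left he0
    rwa [hd1def, h_sub_right hF, h_sub_right hF, h_smul_right hF, h_smul_right hF, hwX, hwY,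
      mul_zero, mul_zero, sub_zero, sub_zero] at h4
  obtain ⟨W, hXW, hWv⟩ := adj_exists hF C X hwU (by rw [suMat_h, h_single hF]) (by rw [hXv]; exact hwX)
  have hYW : Adj a b r Yx W := adj_tri hF C hXY hXW (by
    rw [hYv, hWv]; exact (h_eq_zero_comm hF).1 hwY)
  have hWy : Adj a b r W y' := quad_good hF C hq3 hXadj hy' (adj_symm hF C hXW)
    (by rw [hWv]; exact hwd) (Or.inl (by rw [hXv, hcoord]; show d i₁ ^ (q + 1) ≠ 1; rw [hd1, mul_pow, hγ]; exact hl))
  refine adj_symm hF C (quad_good hF C hq3 (adj_symm hF C hYW) hWy (adj_symm hF C hYz) ?_ ?_)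
  · exact (h_eq_zero_comm hF).1 ho
  · refine Or.inl ?_
    rw [hYv, hdY]
    exact hv1

/-- Quadrangles lift. -/
theorem quad (hq : 4 ≤ q) {x y z y' : D ⧸ a.range} (hyx : Adj a b r y x) (hyz : Adj a b r y z)
    (hy'x : Adj a b r y' x) (ho : hermForm n F q (vec π j y') (vec π j z) = 0) :
    Adj a b r y' z := by
  have hq3 : 3 ≤ q := by omega
  by_cases g1 : Good q (vec π j x) (vec π j z)
  · exact quad_good hF C hq3 hyx hyz hy'x ho g1
  by_cases g2 : Good q (vec π j y) (vec π j y')
  · exact quad_good' hF C hq3 hyx hyz hy'x ho g2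
  -- move the middle segment to the standard pair
  obtain ⟨g, rfl, rfl⟩ := adj_symm hF C hyx
  set z₁ := g⁻¹ • z with hz₁
  set w₁ := g⁻¹ • y' with hw₁
  have bx : g⁻¹ • (QuotientGroup.mk g : D ⧸ a.range) = QuotientGroup.mk 1 := by
    rw [MulAction.Quotient.smul_mk, smul_eq_mul, inv_mul_cancel]
  have by' : g⁻¹ • (QuotientGroup.mk (g * b r) : D ⧸ a.range) = QuotientGroup.mk (b r) := by
    rw [MulAction.Quotient.smul_mk, smul_eq_mul, inv_mul_cancel_left]
  have h1 := adj_smul g⁻¹ hyz
  have h2 := adj_symm hF C (adj_smul g⁻¹ hy'x)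
  rw [by', ← hz₁] at h1
  rw [bx, ← hw₁] at h2
  have n1 : ¬ Good q (δ j) (vec π j z₁) := fun h => g1 (by
    have := good_image hF C g h
    rwa [← vec_base hF C, ← vec_smul hF C, ← vec_smul hF C, hz₁, smul_inv_smul, base_smul] at this)
  have n2 : ¬ Good q (δ i₃) (vec π j w₁) := fun h => g2 (by
    have := good_image hF C g h
    rwa [show (δ i₃ : Fin n → F) = vec π j (QuotientGroup.mk (b r) : D ⧸ a.range) by
      rw [vec_b hF C, C.r_j], ← vec_smul hF C, ← vec_smul hF C, hw₁, smul_inv_smul,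
      MulAction.Quotient.smul_mk, smul_eq_mul] at this)
  have ho' : hermForm n F q (vec π j w₁) (vec π j z₁) = 0 := by
    rw [vec_smul hF C, vec_smul hF C, suMat_h, ho]
  suffices hfin : Adj a b r w₁ z₁ by
    have := adj_smul g hfin
    rwa [hw₁, hz₁, smul_inv_smul, smul_inv_smul] at this
  -- coordinates
  have hcoord : ∀ (x : Fin n) (w : Fin n → F), hermForm n F q w (δ x) = w x := fun x w =>
    h_single_right hF w x
  set c := vec π j z₁
  set d := vec π j w₁
  have hc3 : c i₃ = 0 := by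
    rw [← hcoord i₃ c]
    have := adj_orth' hF C h1
    rwa [vec_b hF C, C.r_j] at this
  have hdj : d j = 0 := by
    rw [← hcoord j d]
    have := adj_orth' hF C h2
    rwa [vec_base hF C] at this
  simp only [Good, not_or, not_not, hcoord] at n1 n2
  set c' := proj {i₁, i₂} c
  set d' := proj {i₁, i₂} d
  have p12 := C.four.h12
  have hcd : c = c j • δ j + c' := funext fun x => by
    by_cases h1 : x = j
    · subst h1; simp [c', proj, C.four.h1j.symm, C.four.h2j.symm]
    by_cases h2 : x = i₁ ∨ x = i₂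
    · simp [c', proj, h1, h2]
    · push Not at h2
      have : c x = 0 := by
        by_cases h3 : x = i₃
        · rw [h3, hc3]
        · exact supp_vec hF C z₁ x (by simp [C.four.hS, h1, h2.1, h2.2, h3])
      simp [c', proj, h1, h2.1, h2.2, this]
  have hdd : d = d i₃ • δ i₃ + d' := funext fun x => by
    by_cases h1 : x = i₃
    · subst h1; simp [d', proj, C.four.h13.symm, C.four.h23.symm]
    by_cases h2 : x = i₁ ∨ x = i₂
    · simp [d', proj, h1, h2]
    · push Not at h2
      have : d x = 0 := by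
        by_cases h3 : x = j
        · rw [h3, hdj]
        · exact supp_vec hF C w₁ x (by simp [C.four.hS, h1, h2.1, h2.2, h3])
      simp [d', proj, h1, h2.1, h2.2, this]
  have hc'0 : c' ≠ 0 := fun e => n1.2 (by conv_lhs => rw [hcd, e, add_zero])
  have hd'0 : d' ≠ 0 := fun e => n2.2 (by conv_lhs => rw [hdd, e, add_zero])
  have hcn : hermForm n F q c' c' = 0 := by
    have := norm_vec hF C z₁
    change hermForm n F q c c = 1 at this
    rw [hcd, add_comm, norm_add_single hF (supp_proj c) (by simp [C.four.h1j.symm, C.four.h2j.symm]),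
      n1.1] at this
    exact add_eq_right.1 this
  have hdn : hermForm n F q d' d' = 0 := by
    have := norm_vec hF C w₁
    change hermForm n F q d d = 1 at this
    rw [hdd, add_comm, norm_add_single hF (supp_proj d) (by simp [C.four.h13.symm, C.four.h23.symm]),
      n2.1] at this
    exact add_eq_right.1 this
  have hcd0 : hermForm n F q d' c' = 0 := by
    have := ho'
    rw [hdd, hcd, h_add_left, h_add_right hF, h_add_right hF, h_smul_left, h_smul_left,
      h_smul_right hF, h_smul_right hF, hcoord, hcoord] at this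
    simpa [d', c', h_single_left hF, proj, zero_pow (q_ne_zero hF), C.four.h1j.symm, C.four.h2j.symm, C.four.h13.symm,
      C.four.h23.symm, C.four.h3j.symm, C.four.h3j] using this
  have sc : c' = c' i₁ • δ i₁ + c' i₂ • δ i₂ := supp_pair p12 (supp_proj (S := ({i₁, i₂} : Finset (Fin n))) c)
  have sd : d' = d' i₁ • δ i₁ + d' i₂ • δ i₂ := supp_pair p12 (supp_proj (S := ({i₁, i₂} : Finset (Fin n))) d)
  rw [h_pair hF p12 (supp_proj c)] at hcn
  rw [h_pair hF p12 (supp_proj d)] at hdn
  change c' i₁ ^ (q + 1) + c' i₂ ^ (q + 1) = 0 at hcn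
  change d' i₁ ^ (q + 1) + d' i₂ ^ (q + 1) = 0 at hdn
  have hc1 : c' i₁ ≠ 0 := fun e => hc'0 (by
    rw [e, zero_pow (by omega), zero_add, pow_eq_zero_iff (by omega)] at hcn
    show c' = 0
    rw [show c' = _ from sc, e, hcn, zero_smul, zero_smul, add_zero])
  have hc2 : c' i₂ ≠ 0 := fun e => hc1 (by
    rw [e, zero_pow (by omega), add_zero, pow_eq_zero_iff (by omega)] at hcn
    exact hcn)
  have hd1 : d' i₁ ≠ 0 := fun e => hd'0 (by
    rw [e, zero_pow (by omega), zero_add, pow_eq_zero_iff (by omega)] at hdn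
    show d' = 0
    rw [show d' = _ from sd, e, hdn, zero_smul, zero_smul, add_zero])
  set μ := d' i₁ / c' i₁ with hμdef
  have hμ : μ ≠ 0 := div_ne_zero hd1 hc1
  have hprop : d' = μ • c' := by
    have e : d' i₁ * c' i₁ ^ q + d' i₂ * c' i₂ ^ q = 0 := by
      rw [show c' = _ from sc, h_add_right hF, h_smul_right hF, h_smul_right hF, hcoord,
        hcoord] at hcd0
      linear_combination hcd0
    have e2 : d' i₂ * c' i₁ = d' i₁ * c' i₂ := by
      refine mul_right_cancel₀ (pow_ne_zero q hc2) ?_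
      have hn : c' i₁ * c' i₁ ^ q + c' i₂ * c' i₂ ^ q = 0 := by rw [← pow_succ', ← pow_succ', hcn]
      linear_combination c' i₁ * e - d' i₁ * hn
    rw [show d' = _ from sd, show c' = _ from sc, smul_add, smul_smul, smul_smul]
    congr 2
    · rw [hμdef, div_mul_cancel₀ _ hc1]
    · rw [hμdef, div_mul_eq_mul_div, ← e2, mul_div_cancel_right₀ _ hc1]
  obtain ⟨k, hkq, hk0, hk1, hk2⟩ := exists_fixed_avoid₂ hF hq 1 (μ ^ (q + 1))⁻¹
  obtain ⟨m, hm, em⟩ := pair_move hF p12 (supp_proj (S := ({i₁, i₂} : Finset (Fin n))) c) hc'0 hkq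
    hk0
  set M : Win F q S := ⟨m, win_mono (sub_pair₁₂ hF C) hm⟩
  have hmj : suMat m *ᵥ (δ j : Fin n → F) = δ j := hm j (by simp [C.four.h1j.symm, C.four.h2j.symm])
  have hm3 : suMat m *ᵥ (δ i₃ : Fin n → F) = δ i₃ :=
    hm i₃ (by simp [C.four.h13.symm, C.four.h23.symm])
  set v := suMat m *ᵥ c'
  have hvs : v = v i₁ • δ i₁ + v i₂ • δ i₂ := supp_pair p12 (supp_image hF hm (supp_proj c))
  have hv2 : v i₂ ^ (q + 1) = -k := by
    have : hermForm n F q v v = 0 := by rw [suMat_h, h_pair hF p12 (supp_proj c)]; exact hcn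
    rw [h_pair hF p12 (supp_image hF hm (supp_proj c)), show v i₁ ^ (q + 1) = k from em] at this
    linear_combination this
  have h1' := adj_smul (a M) h1
  have h2' := adj_smul (a M) h2
  rw [fix_R hF C (show M.1 ∈ _ from hm)] at h1'
  rw [fix_base] at h2'
  have ec : vec π j (a M • z₁) = c j • δ j + v i₁ • δ i₁ + v i₂ • δ i₂ := by
    rw [vec_smul hF C, C.four.hπa, show vec π j z₁ = c from rfl, hcd, mulVec_add, mulVec_smul,
      hmj, add_assoc, ← hvs]
    simp [c', proj, C.four.h1j.symm, C.four.h2j.symm]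
    rfl
  have ed : vec π j (a M • w₁) = d i₃ • δ i₃ + (μ * v i₁) • δ i₁ + (μ * v i₂) • δ i₂ := by
    rw [vec_smul hF C, C.four.hπa, show vec π j w₁ = d from rfl, hdd, mulVec_add, mulVec_smul,
      hm3, hprop, mulVec_smul, mul_smul, mul_smul, add_assoc, ← smul_add, ← hvs]
    simp [c', proj, C.four.h13.symm, C.four.h23.symm]
    rfl
  have hfin := quad_core hF C hq h1' h2' ec ed (by rw [vec_smul hF C (a M) z₁, vec_smul hF C (a M) w₁, suMat_h, ho'])
    n1.1 n2.1 hkq em hv2 hk0 hk1 hμ (fun e => hk2 (eq_inv_of_mul_eq_one_right e))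
  have := adj_smul (a M)⁻¹ hfin
  rwa [inv_smul_smul, inv_smul_smul] at this

end H41.Phan
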