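import Cfsg.Agent.H41.Phan.Weak
import Cfsg.Agent.H50.Center

/-!
Standard pairs as homomorphisms on triple windows.
-/

set_option autoImplicit false
set_option linter.unusedSectionVars false

namespace H41.Phan

open Matrix Cfsg H50 H37 H69.SUW

universe u v

variable {F : Type u} [Field F] {q N : ℕ} {G : Type v} [Group G]
variable [Fintype F] (hF : Fintype.card F = q ^ 2)
include hF

/-- A central element of `SU_3` fixing a unit vector is trivial. -/
theorem center_win {S : Finset (Fin 3)} {g : SU 3 F q} (hg : g ∈ Subgroup.center (SU 3 F q))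
    (hS : g ∈ Win F q S) {i : Fin 3} (hi : i ∉ S) : g = 1 := by
  obtain ⟨l, -, hl⟩ := scalar_of_mem_center hF (by norm_num) hg
  have h := hS i hi
  rw [hl, smul_mulVec, one_mulVec] at h
  have h1 : l = 1 := by simpa [δ] using congrFun h i
  exact SU_ext (by
    show suMat g = suMat (1 : SU 3 F q)
    rw [hl, h1, one_smul, suMat_one])

/-- A standard pair on the triple window at `a`. -/
theorem stdPair_of_hom {a : ℕ} (ha : a + 3 ≤ N) (U : ℕ → Subgroup G) (Φ : SU 3 F q →* G)
    (hker : Φ.ker ≤ Subgroup.center (SU 3 F q))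
    (hA : (Win F q (seg 3 0 2)).map Φ = U a) (hB : (Win F q (seg 3 1 3)).map Φ = U (a + 1)) :
    ∃ ψ : Win F q (seg N a (a + 3)) →* G, StdPair U a ψ := by
  set f := shiftEmb ha with hf
  have hle : Win F q (seg N a (a + 3)) ≤ Win F q ((Finset.univ : Finset (Fin 3)).map f) := by
    rw [hf, map_univ ha]
  set ι : Win F q (seg N a (a + 3)) →* SU 3 F q :=
    (embIso hF f).symm.toMonoidHom.comp (Subgroup.inclusion hle) with hι
  have hemb : ∀ g, emb hF f (ι g) = g.1 := fun g => by
    rw [← embIso_apply hF]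
    exact congrArg Subtype.val ((embIso hF f).apply_symm_apply (Subgroup.inclusion hle g))
  have hinv : ∀ x (h : emb hF f x ∈ Win F q (seg N a (a + 3))), ι ⟨_, h⟩ = x :=
    fun x h => emb_injective hF f (hemb ⟨_, h⟩)
  have hmem : ∀ (g : Win F q (seg N a (a + 3))) (c d : ℕ), d ≤ 3 →
      (g.1 ∈ Win F q (seg N (a + c) (a + d)) ↔ ι g ∈ Win F q (seg 3 c d)) := fun g c d hd => by
    rw [← map_seg ha hd, ← hemb g, emb_mem_iff hF]
  have hmap : ∀ c d, d ≤ 3 →
      ((Win F q (seg N (a + c) (a + d))).subgroupOf (Win F q (seg N a (a + 3)))).map (Φ.comp ι) =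
        (Win F q (seg 3 c d)).map Φ := fun c d hd => by
    refine le_antisymm ?_ ?_
    · rintro _ ⟨g, hg, rfl⟩
      exact ⟨ι g, (hmem g c d hd).1 hg, rfl⟩
    · rintro _ ⟨x, hx, rfl⟩
      have h : emb hF f x ∈ Win F q (seg N a (a + 3)) := by
        rw [hf, ← map_univ ha, emb_mem_iff hF]; exact win_univ x
      refine ⟨⟨_, h⟩, ?_, by rw [MonoidHom.comp_apply, hinv]⟩
      show emb hF f x ∈ Win F q (seg N (a + c) (a + d))
      rw [hf, ← map_seg ha hd, emb_mem_iff hF]
      exact hx
  refine ⟨Φ.comp ι, fun g hg h => ?_, ?_, ?_, fun g hg => ?_⟩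
  · have hc := hker (show ι g ∈ Φ.ker from h)
    have h1 : ι g = 1 := by
      rcases hg with hg | hg
      · exact center_win hF hc ((hmem g 0 2 (by norm_num)).1 hg) (i := 2) (by simp [mem_seg])
      · exact center_win hF hc ((hmem g 1 3 le_rfl).1 hg) (i := 0) (by simp [mem_seg])
    exact Subtype.ext ((hemb g).symm.trans (by rw [h1, map_one]; rfl))
  · exact (hmap 0 2 (by norm_num)).trans hA
  · exact (hmap 1 3 le_rfl).trans hB
  · refine Subgroup.mem_center_iff.2 fun x => Subtype.ext ?_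
    have hc := Subgroup.mem_center_iff.1 (hker (show ι g ∈ Φ.ker from hg)) (ι x)
    have h := congrArg (emb hF f) hc
    rw [map_mul, map_mul, hemb, hemb] at h
    exact h

omit [Fintype F] hF in
/-- The homomorphism of a standard pair. -/
theorem hom_of_standard [Fintype F] (hF : Fintype.card F = q ^ 2) {V A B : Subgroup G}
    (h : IsStandardUnitaryPair V A B F q) :
    ∃ Φ : SU 3 F q →* G, Φ.range = V ∧ Φ.ker ≤ Subgroup.center (SU 3 F q) ∧
      (Win F q (seg 3 0 2)).map Φ = A ∧ (Win F q (seg 3 1 3)).map Φ = B := by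
  have e1 : suBlock 3 F q ({0, 1} : Set (Fin 3)) = Win F q (seg 3 0 2) := by
    rw [← suBlock_eq hF (seg 3 0 2)]
    congr 1
    ext i
    fin_cases i <;> simp [mem_seg]
  have e2 : suBlock 3 F q ({1, 2} : Set (Fin 3)) = Win F q (seg 3 1 3) := by
    rw [← suBlock_eq hF (seg 3 1 3)]
    congr 1
    ext i
    fin_cases i <;> simp [mem_seg]
  rcases h with ⟨ψ, hA, hB⟩ | ⟨ψ, hA, hB⟩ <;> rw [e1] at hA <;> rw [e2] at hB
  · refine ⟨_, ?_, ?_, hA, hB⟩
    · rw [MonoidHom.range_comp, MonoidHom.range_eq_top.2 ψ.surjective, ← MonoidHom.range_eq_map,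
        Subgroup.range_subtype]
    · rw [(MonoidHom.ker_eq_bot_iff _).2 (fun _ _ e => ψ.injective (Subtype.ext e))]
      exact bot_le
  · refine ⟨_, ?_, ?_, hA, hB⟩
    · rw [MonoidHom.range_comp, MonoidHom.range_eq_top.2
        (ψ.surjective.comp (QuotientGroup.mk'_surjective _)), ← MonoidHom.range_eq_map,
        Subgroup.range_subtype]
    · intro x hx
      have h1 : ψ (QuotientGroup.mk' _ x) = 1 := Subtype.ext hx
      rw [← QuotientGroup.ker_mk' (Subgroup.center (SU 3 F q)), MonoidHom.mem_ker]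
      exact ψ.injective (h1.trans (map_one ψ).symm)

/-- A standard pair generates its ambient group for `q ≥ 3`. -/
theorem range_le_of_standard (hq : 3 ≤ q) {A B : Subgroup G} {Φ : SU 3 F q →* G}
    (hA : (Win F q (seg 3 0 2)).map Φ = A) (hB : (Win F q (seg 3 1 3)).map Φ = B) :
    Φ.range ≤ A ⊔ B := by
  rintro _ ⟨x, rfl⟩
  rw [← hA, ← hB, ← Subgroup.map_sup]
  refine Subgroup.mem_map_of_mem Φ ?_
  have h := gen_three hF hq (i := (0 : Fin 3)) (k := 1) (j := 2) (by decide) (by decide) (by decide)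
  refine sup_le_sup (win_mono fun i hi => ?_) (win_mono fun i hi => ?_)
    (h (win_mono (fun i _ => ?_) (win_univ x)))
  all_goals fin_cases i <;> simp_all [mem_seg]

end H41.Phan
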