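import Cfsg.Agent.H41.Phan.Emb
import Cfsg.Agent.H41.Phan.Build

/-!
Weak Phan systems: normalising the standard pairs.
-/

set_option autoImplicit false
set_option linter.unusedSectionVars false

namespace H41.Phan

open Matrix Cfsg H50 H37 H69.SUW

universe u v

variable {F : Type u} [Field F] {q N : ℕ} {G : Type v} [Group G]

/-- The embedding `x ↦ a + x` of indices. -/
def shiftEmb {a m : ℕ} (h : a + m ≤ N) : Fin m ↪ Fin N :=
  ⟨fun x => ⟨a + x.1, by omega⟩, fun x y e => by simpa [Fin.ext_iff] using e⟩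

theorem shiftEmb_val {a m : ℕ} (h : a + m ≤ N) (x : Fin m) : (shiftEmb h x).1 = a + x.1 := rfl

theorem map_seg {a m c d : ℕ} (h : a + m ≤ N) (hd : d ≤ m) :
    (seg m c d).map (shiftEmb h) = seg N (a + c) (a + d) := by
  ext i
  simp only [Finset.mem_map, mem_seg]
  constructor
  · rintro ⟨x, hx, rfl⟩
    show a + c ≤ a + x.1 ∧ a + x.1 < a + d
    omega
  · intro hi
    exact ⟨⟨i.1 - a, by omega⟩, by constructor <;> simp <;> omega,
      Fin.ext (show a + (i.1 - a) = i.1 by omega)⟩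

theorem map_univ {a m : ℕ} (h : a + m ≤ N) :
    (Finset.univ : Finset (Fin m)).map (shiftEmb h) = seg N a (a + m) := by
  rw [← seg_univ (le_refl m), map_seg h le_rfl, add_zero]

/-- A homomorphism on a triple window giving a standard pair. -/
structure StdPair (U : ℕ → Subgroup G) (a : ℕ)
    (ψ : Win F q (seg N a (a + 3)) →* G) : Prop where
  inj : ∀ g : Win F q (seg N a (a + 3)),
    (g.1 ∈ Win F q (seg N a (a + 2)) ∨ g.1 ∈ Win F q (seg N (a + 1) (a + 3))) → ψ g = 1 → g = 1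
  left : ((Win F q (seg N a (a + 2))).subgroupOf _).map ψ = U a
  right : ((Win F q (seg N (a + 1) (a + 3))).subgroupOf _).map ψ = U (a + 1)
  ker : ψ.ker ≤ Subgroup.center _

variable [Fintype F] (hF : Fintype.card F = q ^ 2)
include hF

/-- The rigidity of automorphisms of `SU_2` needed here. -/
def TorusRigid (F : Type u) [Field F] (q : ℕ) : Prop :=
  ∀ α : SU 2 F q ≃* SU 2 F q,
    (∀ b : F, b ^ (q + 1) = 1 → ∀ x, suMat x 0 1 = 0 → suMat x 1 0 = 0 →
      ∃ y, suMat y 0 1 = 0 ∧ suMat y 1 0 = 0 ∧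
        suMat (α y) = diagonal ![b, 1] * suMat (α x) * diagonal ![b ^ q, 1]) →
    ∃ (u : F) (σ : F ≃+* F), u ^ (q + 1) = 1 ∧
      ∀ x, suMat (α x) = diagonal ![u, 1] * (suMat x).map σ * diagonal ![u ^ q, 1]

/-- Diagonal elements as twists. -/
theorem conj_diag {T : SU N F q} {d : Fin N → F} (hd : ∀ i, d i ^ (q + 1) = 1)
    (hT : suMat T = diagonal d) (g : SU N F q) :
    T * g * T⁻¹ = twist hF d hd (RingEquiv.refl F) g := by
  rw [mul_inv_eq_iff_eq_mul]
  refine SU_ext (Matrix.ext fun i j => ?_)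
  show suMat (T * g) i j = suMat (twist hF d hd (RingEquiv.refl F) g * T) i j
  rw [suMat_mul, suMat_mul, hT, diagonal_mul, mul_diagonal, twist_apply hF, RingEquiv.refl_apply]
  linear_combination -(d i * suMat g i j) * hd j

theorem exists_diag (d : Fin N → F) (hd : ∀ i, d i ^ (q + 1) = 1) (hp : ∏ i, d i = 1) :
    ∃ T : SU N F q, suMat T = diagonal d := by
  refine ⟨mkSU (diagonal d) (SCFour.isIso_of_adj hF ?_) (by rw [det_diagonal, hp]), rfl⟩
  ext i j
  by_cases h : i = j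
  · subst h
    simp [mul_apply, Matrix.diagonal_apply, zero_pow (q_ne_zero hF), ← pow_succ, hd]
  · simp [mul_apply, Matrix.diagonal_apply, zero_pow (q_ne_zero hF), h, Ne.symm h]

/-- A twist of a good homomorphism is good. -/
theorem StdPair.twisted {U : ℕ → Subgroup G} {a : ℕ} {ψ : Win F q (seg N a (a + 3)) →* G}
    (hψ : StdPair U a ψ) (d : Fin N → F) (hd : ∀ i, d i ^ (q + 1) = 1) (σ : F ≃+* F) :
    StdPair U a (ψ.comp (((H41.Phan.twist hF d hd σ).comp
      (Win F q (seg N a (a + 3))).subtype).codRestrict _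
      fun g => (twist_mem_iff hF d hd σ g.1 _).2 g.2)) := by
  set Θ := H41.Phan.twist (q := q) hF d hd σ
  set θ := ((Θ.comp (Win F q (seg N a (a + 3))).subtype).codRestrict (Win F q (seg N a (a + 3)))
      fun g => (twist_mem_iff hF d hd σ g.1 _).2 g.2)
  have hsur : ∀ y : Win F q (seg N a (a + 3)), ∃ x, θ x = y := fun y => by
    obtain ⟨x, hx⟩ := (twist_bijective hF d hd σ).2 y.1
    exact ⟨⟨x, (twist_mem_iff hF d hd σ x _).1 (hx ▸ y.2)⟩, Subtype.ext hx⟩
  have hmap : ∀ S : Finset (Fin N),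
      ((Win F q S).subgroupOf (Win F q (seg N a (a + 3)))).map θ = (Win F q S).subgroupOf _ := by
    intro S
    ext y
    obtain ⟨x, rfl⟩ := hsur y
    constructor
    · rintro ⟨x', hx', e⟩
      rw [← e]
      exact (twist_mem_iff hF d hd σ x'.1 S).2 hx'
    · intro hy
      exact ⟨x, (twist_mem_iff hF d hd σ x.1 S).1 hy, rfl⟩
  refine ⟨fun g hg h => ?_, ?_, ?_, fun g hg => ?_⟩
  · have h2 : θ g = 1 := hψ.inj (θ g)
      (hg.imp (twist_mem_iff hF d hd σ g.1 _).2 (twist_mem_iff hF d hd σ g.1 _).2) h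
    exact Subtype.ext ((twist_bijective hF d hd σ).1 ((congrArg Subtype.val h2).trans (map_one Θ).symm))
  · rw [← Subgroup.map_map, hmap, hψ.left]
  · rw [← Subgroup.map_map, hmap, hψ.right]
  · refine Subgroup.mem_center_iff.2 fun x => ?_
    have h := Subgroup.mem_center_iff.1 (hψ.ker (show θ g ∈ ψ.ker from hg)) (θ x)
    refine Subtype.ext ((twist_bijective hF d hd σ).1 ?_)
    have h' := congrArg Subtype.val h
    show Θ (x.1 * g.1) = Θ (g.1 * x.1)
    rw [map_mul, map_mul]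
    exact h'

/-- A unit vector with an eigenvalue. -/
theorem conj_win {S : Finset (Fin N)} {X g : SU N F q}
    (hX : ∀ i, i ∉ S → ∃ c : F, suMat X *ᵥ δ i = c • (δ i : Fin N → F))
    (hg : g ∈ Win F q S) : X * g * X⁻¹ ∈ Win F q S := fun i hi => by
  obtain ⟨c, hc⟩ := hX i hi
  have hc0 : c ≠ 0 := fun e => by
    rw [e, zero_smul] at hc
    have h := congrArg (fun w => suMat X⁻¹ *ᵥ w) hc
    simp only [suMat_inv_mulVec, mulVec_zero] at h
    have := congrFun h i
    simp [δ] at this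
  have h : suMat (X * g * X⁻¹) *ᵥ (suMat X *ᵥ δ i) = suMat X *ᵥ δ i := by
    rw [← suMat_mulVec_mul, inv_mul_cancel_right, suMat_mulVec_mul, hg i hi]
  rw [hc, mulVec_smul] at h
  exact smul_right_injective _ hc0 h

theorem exists_norm_one_ne (hq : 2 ≤ q) :
    ∃ b : F, b ^ (q + 1) = 1 ∧ b ≠ 1 ∧ b ≠ -1 := by
  classical
  by_contra h
  push Not at h
  have h1 := card_norm_eq hF (one_pow q) (one_ne_zero (α := F))
  rw [Nat.card_eq_fintype_card, Fintype.card_subtype] at h1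
  have h2 : Finset.univ.filter (fun x : F => x ^ (q + 1) = 1) ⊆ {1, -1} := fun x hx => by
    simp only [Finset.mem_filter, Finset.mem_univ, true_and] at hx
    simp only [Finset.mem_insert, Finset.mem_singleton]
    by_cases e : x = 1
    · exact Or.inl e
    · exact Or.inr (h x hx e)
  have := (Finset.card_le_card h2).trans Finset.card_le_two
  omega

/-- An element of the shared pair normalising the next pair is diagonal. -/
theorem diag_of_normal (hq : 2 ≤ q) {a : ℕ} (ha : a + 3 ≤ N) {U : ℕ → Subgroup G}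
    {ψ : Win F q (seg N a (a + 3)) →* G} (hψ : StdPair U a ψ) {x : SU 2 F q}
    {g : Win F q (seg N a (a + 3))}
    (hg : g.1 = emb hF (shiftEmb (show a + 2 ≤ N by omega)) x)
    (hn : ∀ y ∈ U (a + 1), ψ g * y * (ψ g)⁻¹ ∈ U (a + 1)) :
    suMat x 0 1 = 0 ∧ suMat x 1 0 = 0 := by
  classical
  set i₀ : Fin N := ⟨a, by omega⟩ with hi₀
  set i₁ : Fin N := ⟨a + 1, by omega⟩ with hi₁
  set i₂ : Fin N := ⟨a + 2, by omega⟩ with hi₂
  have h12 : i₁ ≠ i₂ := by simp [i₁, i₂, Fin.ext_iff]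
  obtain ⟨k₂, hk₂, ek⟩ := trans_ni hF (S := seg N (a + 1) (a + 3)) (by rw [seg_card ha]; omega)
    (v := δ i₁) (v' := δ i₂) (supp_single (by simp [mem_seg, i₁]))
    (supp_single (by simp [mem_seg, i₂])) (by rw [h_single hF, h_single hF])
    (by rw [h_single hF]; exact one_ne_zero)
  obtain ⟨b, hb, hb1, hb1'⟩ := exists_norm_one_ne hF hq
  set d : Fin N → F := Function.update (Function.update 1 i₁ b) i₂ (b ^ q) with hd
  have hd1 : d i₁ = b := by simp [hd, h12]
  have hd2 : d i₂ = b ^ q := by simp [hd]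
  have hdo : ∀ i, i ≠ i₁ → i ≠ i₂ → d i = 1 := fun i h h' => by simp [hd, h, h']
  obtain ⟨k₁, ek₁⟩ := exists_diag hF d (fun i => by
    by_cases h : i = i₁
    · rw [h, hd1, hb]
    by_cases h' : i = i₂
    · rw [h', hd2, ← pow_mul, mul_comm, pow_mul, hb, one_pow]
    · rw [hdo i h h', one_pow]) (by
    rw [Fintype.prod_eq_mul i₁ i₂ h12 (fun i hi => hdo i hi.1 hi.2), hd1, hd2, ← pow_succ', hb])
  have hk₁ : k₁ ∈ Win F q (seg N (a + 1) (a + 3)) := fun i hi => by
    rw [ek₁]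
    funext l
    rw [mulVec_single_one, Matrix.col_apply]
    have hi' : i ≠ i₁ ∧ i ≠ i₂ := by
      constructor <;> rintro rfl <;> simp [mem_seg, i₁, i₂] at hi
    by_cases hl : l = i
    · subst hl; simp [δ, hdo l hi'.1 hi'.2]
    · simp [δ, diagonal_apply_ne _ hl, hl]
  set P : Subgroup (Win F q (seg N a (a + 3))) :=
    (Win F q (seg N (a + 1) (a + 3))).subgroupOf _
  set k₁' : Win F q (seg N a (a + 3)) := ⟨k₁, win_mono (seg_mono (by omega) le_rfl) hk₁⟩
  set k₂' : Win F q (seg N a (a + 3)) := ⟨k₂, win_mono (seg_mono (by omega) le_rfl) hk₂⟩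
  set c := k₁' * k₂' * k₁'⁻¹ * k₂'⁻¹ with hc
  have hcP : c.1 ∈ Win F q (seg N (a + 1) (a + 3)) :=
    mul_mem (mul_mem (mul_mem hk₁ hk₂) (inv_mem hk₁)) (inv_mem hk₂)
  -- the commutator is not trivial
  have hc1 : c.1 ≠ 1 := by
    intro e
    have h : k₁ * k₂ = k₂ * k₁ := by
      have e' : k₁ * k₂ * k₁⁻¹ * k₂⁻¹ = 1 := e
      rwa [mul_inv_eq_one, mul_inv_eq_iff_eq_mul] at e'
    have h2 := congrArg (fun w : SU N F q => suMat w *ᵥ δ i₁) h
    simp only [suMat_mulVec_mul, ek] at h2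
    have eig : ∀ i, suMat k₁ *ᵥ (δ i : Fin N → F) = d i • δ i := fun i => by
      rw [ek₁]
      funext l
      by_cases hl : l = i
      · subst hl; simp [δ]
      · simp [δ, diagonal_apply_ne _ hl, hl]
    rw [eig, eig, mulVec_smul, ek, hd2, hd1] at h2
    have h3 : b ^ q = b := by simpa [δ] using congrFun h2 i₂
    have h4 : b * b = 1 := by rw [← hb, pow_succ, h3]
    rcases mul_self_eq_one_iff.1 h4 with h5 | h5
    · exact hb1 h5
    · exact hb1' h5
  -- the conjugate of the commutator stays in the pair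
  have conjP : ∀ k ∈ P, ∃ h ∈ P, ∃ z ∈ ψ.ker, g * k * g⁻¹ = h * z := by
    intro k hk
    have hm := hn (ψ k) (by rw [← hψ.right]; exact ⟨k, hk, rfl⟩)
    rw [← hψ.right] at hm
    obtain ⟨h, hh, e⟩ := hm
    refine ⟨h, hh, h⁻¹ * (g * k * g⁻¹), ?_, by group⟩
    rw [MonoidHom.mem_ker, map_mul, map_inv, e, map_mul, map_mul, map_inv, inv_mul_cancel]
  obtain ⟨h₁, hh₁, z₁, hz₁, e₁⟩ := conjP k₁' hk₁
  obtain ⟨h₂, hh₂, z₂, hz₂, e₂⟩ := conjP k₂' hk₂
  have hcc : g * c * g⁻¹ = h₁ * h₂ * h₁⁻¹ * h₂⁻¹ := by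
    have c₁ := Subgroup.mem_center_iff.1 (hψ.ker hz₁)
    have c₂ := Subgroup.mem_center_iff.1 (hψ.ker hz₂)
    calc g * c * g⁻¹
        = g * k₁' * g⁻¹ * (g * k₂' * g⁻¹) * (g * k₁' * g⁻¹)⁻¹ * (g * k₂' * g⁻¹)⁻¹ := by
          rw [hc]; group
      _ = h₁ * (z₁ * h₂) * (z₂ * z₁⁻¹) * h₁⁻¹ * (z₂⁻¹ * h₂⁻¹) := by rw [e₁, e₂]; group
      _ = h₁ * (h₂ * z₁) * (z₂ * z₁⁻¹) * h₁⁻¹ * (z₂⁻¹ * h₂⁻¹) := by rw [c₁ h₂]
      _ = h₁ * h₂ * (z₁ * z₂ * z₁⁻¹ * (h₁⁻¹ * z₂⁻¹)) * h₂⁻¹ := by group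
      _ = h₁ * h₂ * (z₂ * (h₁⁻¹ * z₂⁻¹)) * h₂⁻¹ := by rw [c₂ z₁]; group
      _ = h₁ * h₂ * h₁⁻¹ * h₂⁻¹ := by rw [← mul_assoc z₂, ← c₂ h₁⁻¹]; group
  have hP' : g.1 * c.1 * g.1⁻¹ ∈ Win F q (seg N (a + 1) (a + 3)) := by
    have h : (g * c * g⁻¹).1 ∈ Win F q (seg N (a + 1) (a + 3)) := by
      rw [hcc]
      exact mul_mem (mul_mem (mul_mem hh₁ hh₂) (inv_mem hh₁)) (inv_mem hh₂)
    exact h
  have hgP : g.1 ∈ Win F q (seg N a (a + 2)) := by
    rw [hg, ← map_univ (show a + 2 ≤ N by omega), emb_mem_iff hF]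
    exact win_univ x
  set v := suMat g.1⁻¹ *ᵥ (δ i₀ : Fin N → F) with hv
  have hvs : Supp ({i₀, i₁} : Finset (Fin N)) v := by
    have := supp_image hF (inv_mem hgP) (v := (δ i₀ : Fin N → F))
      (supp_single (by simp [mem_seg, i₀]))
    exact this.mono fun i hi => by
      rw [mem_seg] at hi
      simp [i₀, i₁, Fin.ext_iff]
      omega
  have hfix : suMat c.1 *ᵥ v = v := by
    have h := congrArg (fun w => suMat g.1⁻¹ *ᵥ w) (hP' i₀ (by simp [mem_seg, i₀]))
    simp only [suMat_mulVec_mul, suMat_inv_mulVec] at h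
    exact h
  have hc0 : suMat c.1 *ᵥ δ i₀ = (δ i₀ : Fin N → F) := hcP i₀ (by simp [mem_seg, i₀])
  have hcne : suMat c.1 *ᵥ δ i₁ ≠ (δ i₁ : Fin N → F) := fun e => hc1
    (win_trivial hF (S := (seg N (a + 1) (a + 3)).erase i₁) (by
      rw [Finset.card_erase_of_mem (by simp [mem_seg, i₁]), seg_card ha]; omega) (win_erase hcP e))
  have hv1 : v i₁ = 0 := by
    by_contra hne
    apply hcne
    have hdec := supp_pair (show i₀ ≠ i₁ by simp [i₀, i₁, Fin.ext_iff]) hvs
    rw [hdec, mulVec_add, mulVec_smul, mulVec_smul, hc0, add_right_inj] at hfix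
    exact smul_right_injective _ hne hfix
  have h10 : suMat x⁻¹ 1 0 = 0 := by
    rw [← emb_apply hF (shiftEmb (show a + 2 ≤ N by omega)), map_inv, ← hg, ← hv1, hv,
      single_mulVec]
    rfl
  have hdet : suMat x 0 0 * suMat x 1 1 - suMat x 0 1 * suMat x 1 0 = 1 := by
    rw [← Matrix.det_fin_two]; exact x.1.2
  have hinv : suMat x⁻¹ = (suMat x).adjugate := rfl
  rw [hinv, Matrix.adjugate_fin_two] at h10
  have h10' : suMat x 1 0 = 0 := by simpa using h10
  refine ⟨?_, h10'⟩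
  rw [h10', mul_zero, sub_zero] at hdet
  have hu := congrFun (congrFun (SCFour.adj_of_isIso hF (SU_isIso x)) 0) 1
  rw [mul_apply, Fin.sum_univ_two, H51.adj_apply, H51.adj_apply] at hu
  have hu' : (suMat x 0 0) ^ q * suMat x 0 1 + (suMat x 1 0) ^ q * suMat x 1 1 = 0 := by
    simpa using hu
  rw [h10', zero_pow (q_ne_zero hF), zero_mul, add_zero] at hu'
  exact (mul_eq_zero.1 hu').resolve_left (pow_ne_zero _ (left_ne_zero_of_mul_eq_one hdet))

/-- The pair window at `c` inside the triple at `a`, read in `SU_2`. -/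
noncomputable def pairHom {a c : ℕ} (h1 : a ≤ c) (h2 : c + 2 ≤ a + 3) (h3 : c + 2 ≤ N)
    (ψ : Win F q (seg N a (a + 3)) →* G) : SU 2 F q →* G :=
  ψ.comp ((emb hF (shiftEmb h3)).codRestrict _ fun x => win_mono (seg_mono h1 h2) (by
    rw [← map_univ h3, emb_mem_iff hF]; exact win_univ x))

theorem pairHom_range {a c : ℕ} (h1 : a ≤ c) (h2 : c + 2 ≤ a + 3) (h3 : c + 2 ≤ N)
    (ψ : Win F q (seg N a (a + 3)) →* G) :
    (pairHom hF h1 h2 h3 ψ).range = ((Win F q (seg N c (c + 2))).subgroupOf _).map ψ := by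
  refine le_antisymm ?_ ?_
  · rintro _ ⟨x, rfl⟩
    refine ⟨_, ?_, rfl⟩
    show emb hF (shiftEmb h3) x ∈ Win F q (seg N c (c + 2))
    rw [← map_univ h3, emb_mem_iff hF]
    exact win_univ x
  · rintro _ ⟨g, hg, rfl⟩
    have hg' : g.1 ∈ Win F q ((Finset.univ : Finset (Fin 2)).map (shiftEmb h3)) := by
      rw [map_univ h3]; exact hg
    obtain ⟨x, hx⟩ := emb_surj hF _ hg'
    exact ⟨x, congrArg ψ (Subtype.ext hx)⟩

theorem pairHom_injective {a c : ℕ} (h1 : a ≤ c) (h2 : c + 2 ≤ a + 3) (h3 : c + 2 ≤ N)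
    {U : ℕ → Subgroup G} {ψ : Win F q (seg N a (a + 3)) →* G} (hψ : StdPair U a ψ) :
    Function.Injective (pairHom hF h1 h2 h3 ψ) := by
  refine (injective_iff_map_eq_one _).2 fun x hx => ?_
  have hm : emb hF (shiftEmb h3) x ∈ Win F q (seg N c (c + 2)) := by
    rw [← map_univ h3, emb_mem_iff hF]; exact win_univ x
  have h := congrArg Subtype.val (hψ.inj
    ⟨emb hF (shiftEmb h3) x, win_mono (seg_mono h1 h2) hm⟩ (by
      rcases (show c = a ∨ c = a + 1 by omega) with rfl | rfl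
      · exact Or.inl hm
      · exact Or.inr hm) hx)
  exact emb_injective hF _ (h.trans (map_one _).symm)

/-- A neighbour can be changed to agree on the shared pair. -/
theorem exists_agree (hq : 2 ≤ q) (hrig : TorusRigid F q) {a : ℕ} (ha : a + 4 ≤ N)
    {U : ℕ → Subgroup G} (hcomm : ∀ x ∈ U a, ∀ y ∈ U (a + 2), Commute x y)
    {ψ : Win F q (seg N a (a + 3)) →* G} {ψ' : Win F q (seg N (a + 1) (a + 1 + 3)) →* G}
    (hψ : StdPair U a ψ) (hψ' : StdPair U (a + 1) ψ') :
    ∃ ψ'' : Win F q (seg N (a + 1) (a + 1 + 3)) →* G, StdPair U (a + 1) ψ'' ∧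
      ∀ g (h : g ∈ Win F q (seg N a (a + 3))) (h' : g ∈ Win F q (seg N (a + 1) (a + 1 + 3))),
        ψ ⟨g, h⟩ = ψ'' ⟨g, h'⟩ := by
  classical
  have h3 : a + 1 + 2 ≤ N := by omega
  set fL := pairHom hF (show a ≤ a + 1 by omega) le_rfl h3 ψ with hfL
  set fR := pairHom hF (le_refl (a + 1)) (show a + 1 + 2 ≤ a + 1 + 3 by omega) h3 ψ' with hfR
  have iL := pairHom_injective hF (show a ≤ a + 1 by omega) le_rfl h3 hψ
  have iR := pairHom_injective hF (le_refl (a + 1)) (show a + 1 + 2 ≤ a + 1 + 3 by omega) h3 hψ'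
  have eq : fR.range = fL.range := by
    rw [hfR, hfL, pairHom_range hF, pairHom_range hF]
    exact hψ'.left.trans hψ.right.symm
  set α : SU 2 F q ≃* SU 2 F q := (MonoidHom.ofInjective iR).trans
    ((MulEquiv.subgroupCongr eq).trans (MonoidHom.ofInjective iL).symm) with hα
  have key : ∀ x, fL (α x) = fR x := fun x => by
    have h := (MonoidHom.ofInjective iL).apply_symm_apply
      ((MulEquiv.subgroupCongr eq) (MonoidHom.ofInjective iR x))
    exact congrArg Subtype.val h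
  obtain ⟨u, σ, hu, hασ⟩ := hrig α (by
    intro b hb x hx01 hx10
    set i₀ : Fin N := ⟨a, by omega⟩
    set i₁ : Fin N := ⟨a + 1, by omega⟩
    have h01 : i₀ ≠ i₁ := by simp [i₀, i₁, Fin.ext_iff]
    set d : Fin N → F := Function.update (Function.update 1 i₀ (b ^ q)) i₁ b with hd
    have hd0 : d i₀ = b ^ q := by simp [hd, h01]
    have hd1 : d i₁ = b := by simp [hd]
    have hdo : ∀ i, i ≠ i₀ → i ≠ i₁ → d i = 1 := fun i h h' => by simp [hd, h, h']
    have hdn : ∀ i, d i ^ (q + 1) = 1 := fun i => by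
      by_cases h : i = i₀
      · rw [h, hd0, ← pow_mul, mul_comm, pow_mul, hb, one_pow]
      by_cases h' : i = i₁
      · rw [h', hd1, hb]
      · rw [hdo i h h', one_pow]
    obtain ⟨T, hT⟩ := exists_diag hF d hdn (by
      rw [Fintype.prod_eq_mul i₀ i₁ h01 (fun i hi => hdo i hi.1 hi.2), hd0, hd1, ← pow_succ, hb])
    have hTw : T ∈ Win F q (seg N a (a + 2)) := fun i hi => by
      rw [hT]
      funext l
      have hi' : i ≠ i₀ ∧ i ≠ i₁ := by
        constructor <;> rintro rfl <;> simp [mem_seg, i₀, i₁] at hi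
      by_cases hl : l = i
      · subst hl; simp [δ, hdo l hi'.1 hi'.2]
      · simp [δ, diagonal_apply_ne _ hl, hl]
    set T' : Win F q (seg N a (a + 3)) := ⟨T, win_mono (seg_mono le_rfl (by omega)) hTw⟩
    have hτU : ψ T' ∈ U a := by rw [← hψ.left]; exact ⟨T', hTw, rfl⟩
    have hde : ∀ i, (![b, 1] : Fin 2 → F) i ^ (q + 1) = 1 := fun i => by fin_cases i <;> simp [hb]
    set t := twist hF ![b, 1] hde (RingEquiv.refl F)
    have hconj : ∀ y, ψ T' * fL y * (ψ T')⁻¹ = fL (t y) := fun y => by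
      rw [hfL]
      show ψ T' * ψ _ * (ψ T')⁻¹ = ψ _
      rw [← map_inv, ← map_mul, ← map_mul]
      refine congrArg ψ (Subtype.ext ?_)
      show T * emb hF (shiftEmb h3) y * T⁻¹ = emb hF (shiftEmb h3) (t y)
      rw [conj_diag hF hdn hT, twist_emb hF]
      congr 2
      have : d ∘ shiftEmb h3 = ![b, 1] := funext fun i => by
        fin_cases i
        · exact hd1
        · exact hdo _ (by simp [shiftEmb_val, i₀, Fin.ext_iff]; omega) (by simp [shiftEmb_val, i₁, Fin.ext_iff])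
      simp only [this]
      rfl
    obtain ⟨y, hy⟩ : ∃ y, α y = t (α x) := ⟨_, α.apply_symm_apply _⟩
    have hfRy : fR y = ψ T' * fR x * (ψ T')⁻¹ := by rw [← key, ← key, hy, hconj]
    -- the image of a diagonal element normalises the next pair
    have hxn : ∀ w ∈ U (a + 1 + 1), fR x * w * (fR x)⁻¹ ∈ U (a + 1 + 1) := by
      intro w hw
      rw [← hψ'.right] at hw ⊢
      obtain ⟨k, hk, rfl⟩ := hw
      refine ⟨⟨emb hF (shiftEmb h3) x, win_mono (seg_mono (N := N) (le_refl (a + 1)) (show a + 1 + 2 ≤ a + 1 + 3 by omega))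
        (by rw [← map_univ h3, emb_mem_iff hF]; exact win_univ x)⟩ * k *
        ⟨emb hF (shiftEmb h3) x, win_mono (seg_mono (N := N) (le_refl (a + 1)) (show a + 1 + 2 ≤ a + 1 + 3 by omega))
        (by rw [← map_univ h3, emb_mem_iff hF]; exact win_univ x)⟩⁻¹, ?_, by
        rw [map_mul, map_mul, map_inv]; rfl⟩
      show emb hF (shiftEmb h3) x * k.1 * (emb hF (shiftEmb h3) x)⁻¹ ∈
        Win F q (seg N (a + 1 + 1) (a + 1 + 3))
      refine conj_win hF (fun i _ => ?_) hk
      by_cases hr : i ∈ Set.range (shiftEmb h3)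
      · obtain ⟨l, rfl⟩ := hr
        refine ⟨suMat x l l, funext fun r => ?_⟩
        rw [single_mulVec]
        by_cases hr' : r ∈ Set.range (shiftEmb h3)
        · obtain ⟨r, rfl⟩ := hr'
          rw [emb_apply hF]
          fin_cases r <;> fin_cases l <;> simp [δ, hx01, hx10, shiftEmb, Fin.ext_iff]
        · have : r ≠ shiftEmb h3 l := fun e => hr' ⟨l, e.symm⟩
          rw [emb_apply_left hF _ _ hr']
          simp [δ, Matrix.one_apply, this]
      · exact ⟨1, by rw [emb_fix_out hF _ _ hr, one_smul]⟩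
    have hyn : ∀ w ∈ U (a + 1 + 1), fR y * w * (fR y)⁻¹ ∈ U (a + 1 + 1) := by
      intro w hw
      have c := hcomm _ hτU
      have hxw := hxn _ hw
      have e1 : fR y * w * (fR y)⁻¹ =
          ψ T' * (fR x * w * (fR x)⁻¹) * (ψ T')⁻¹ := by
        rw [hfRy]
        have e2 : (ψ T')⁻¹ * w * ψ T' = w := by
          rw [mul_assoc, ← (c w hw).eq, inv_mul_cancel_left]
        calc _ = ψ T' * (fR x * ((ψ T')⁻¹ * w * ψ T') * (fR x)⁻¹) * (ψ T')⁻¹ := by group
          _ = _ := by rw [e2]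
      rw [e1, (c _ hxw).eq, mul_inv_cancel_right]
      exact hxw
    obtain ⟨hy01, hy10⟩ := diag_of_normal hF hq (show a + 1 + 3 ≤ N by omega) hψ' (x := y)
      (g := ⟨emb hF (shiftEmb h3) y, win_mono (seg_mono (N := N) (le_refl (a + 1)) (show a + 1 + 2 ≤ a + 1 + 3 by omega))
        (by rw [← map_univ h3, emb_mem_iff hF]; exact win_univ y)⟩) rfl hyn
    refine ⟨y, hy01, hy10, Matrix.ext fun i j => ?_⟩
    rw [hy, twist_apply hF, mul_diagonal, diagonal_mul, RingEquiv.refl_apply]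
    fin_cases i <;> fin_cases j <;> simp)
  -- the twist
  set i₁ : Fin N := ⟨a + 1, by omega⟩
  set d : Fin N → F := Function.update 1 i₁ (σ.symm (u ^ q)) with hd
  have hdn : ∀ i, d i ^ (q + 1) = 1 := fun i => by
    by_cases h : i = i₁
    · rw [h, hd, Function.update_self, ← map_pow, ← pow_mul, mul_comm, pow_mul, hu, one_pow,
        map_one]
    · simp [hd, h]
  refine ⟨_, hψ'.twisted hF d hdn σ.symm, fun g h h' => ?_⟩
  have hg : g ∈ Win F q ((Finset.univ : Finset (Fin 2)).map (shiftEmb h3)) := by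
    rw [map_univ h3]
    exact win_mono (fun i hi => by simp only [Finset.mem_inter, mem_seg] at hi ⊢; omega)
      (win_inter h h')
  obtain ⟨y, rfl⟩ := emb_surj hF _ hg
  have e : α (twist hF (d ∘ shiftEmb h3) (fun l => hdn _) σ.symm y) = y := by
    refine SU_ext (Matrix.ext fun i j => ?_)
    show suMat (α _) i j = suMat y i j
    rw [hασ, mul_diagonal, diagonal_mul, Matrix.map_apply, twist_apply hF]
    have d0 : d (shiftEmb h3 0) = σ.symm (u ^ q) := by
      rw [show shiftEmb h3 0 = i₁ from rfl, hd, Function.update_self]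
    have d1 : d (shiftEmb h3 1) = 1 := by simp [hd, shiftEmb_val, i₁, Fin.ext_iff]
    have uu : (u ^ q) ^ q = u := pow_q_pow_q hF u
    fin_cases i <;> fin_cases j <;> simp [Function.comp, d0, d1, uu]
    · linear_combination (suMat y 0 0 * (u * u ^ q + 1)) * hu
    all_goals linear_combination (suMat y _ _) * hu
  show fL y = ψ' _
  conv_lhs => rw [← e, key]
  exact congrArg ψ' (Subtype.ext (twist_emb hF (shiftEmb h3) d hdn σ.symm y).symm)

/-- The images of the part of a triple between two cuts. -/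
theorem image_le (hq : 3 ≤ q) {a : ℕ} (ha : a + 3 ≤ N) {U : ℕ → Subgroup G}
    {ψ : Win F q (seg N a (a + 3)) →* G} (hψ : StdPair U a ψ) {lo hi : ℕ}
    {g : Win F q (seg N a (a + 3))} (hg : g.1 ∈ Win F q (seg N lo hi)) :
    ψ g ∈ ⨆ (i : ℕ) (_ : lo ≤ i ∧ i + 2 ≤ hi ∧ a ≤ i ∧ i + 2 ≤ a + 3), U i := by
  set K := ⨆ (i : ℕ) (_ : lo ≤ i ∧ i + 2 ≤ hi ∧ a ≤ i ∧ i + 2 ≤ a + 3), U i with hK
  have hs : g.1 ∈ Win F q (seg N (max lo a) (min hi (a + 3))) := win_mono (fun i hi' => by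
    simp only [Finset.mem_inter, mem_seg] at hi' ⊢
    omega) (win_inter hg g.2)
  by_cases hsmall : min hi (a + 3) ≤ max lo a + 1
  · rw [show g = 1 from Subtype.ext (win_trivial hF (by
      have := seg_card (N := N) (a := max lo a) (b := min hi (a + 3)) (by omega)
      omega) hs), map_one]
    exact one_mem _
  have pair : ∀ c, max lo a ≤ c → c + 2 ≤ min hi (a + 3) → U c ≤ K := fun c h1 h2 =>
    le_iSup₂_of_le c ⟨by omega, by omega, by omega, by omega⟩ le_rfl
  by_cases hbig : max lo a = a ∧ min hi (a + 3) = a + 3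
  · have hgen : Win F q (seg N a (a + 3)) ≤
        Win F q (seg N a (a + 2)) ⊔ Win F q (seg N (a + 1) (a + 3)) := by
      have h := gen_three hF hq (i := (⟨a, by omega⟩ : Fin N)) (k := ⟨a + 1, by omega⟩)
        (j := ⟨a + 2, by omega⟩) (by simp [Fin.ext_iff]) (by simp [Fin.ext_iff])
        (by simp [Fin.ext_iff])
      refine le_trans (win_mono fun i hi' => ?_) (h.trans
        (sup_le_sup (win_mono fun i hi' => ?_) (win_mono fun i hi' => ?_)))
      all_goals simp [mem_seg, Fin.ext_iff] at hi' ⊢; omega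
    have hK' : (Win F q (seg N a (a + 2)) ⊔ Win F q (seg N (a + 1) (a + 3))).subgroupOf
        (Win F q (seg N a (a + 3))) ≤ K.comap ψ := by
      rw [Subgroup.subgroupOf_sup (win_mono (seg_mono le_rfl (by omega)))
        (win_mono (seg_mono (by omega) le_rfl))]
      refine sup_le ?_ ?_ <;> rw [← Subgroup.map_le_iff_le_comap]
      · rw [hψ.left]; exact pair a (by omega) (by omega)
      · rw [hψ.right]; exact pair (a + 1) (by omega) (by omega)
    exact hK' (hgen g.2)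
  · rcases (show (max lo a = a ∧ min hi (a + 3) = a + 2) ∨
        (max lo a = a + 1 ∧ min hi (a + 3) = a + 3) by omega) with ⟨e1, e2⟩ | ⟨e1, e2⟩
    · rw [e1, e2] at hs
      exact pair a (by omega) (by omega) (hψ.left ▸ Subgroup.mem_map_of_mem ψ hs)
    · rw [e1, e2] at hs
      exact pair (a + 1) (by omega) (by omega) (hψ.right ▸ Subgroup.mem_map_of_mem ψ hs)

/-- Recognition from standard pairs, given the rigidity of `SU_2`. -/
theorem weak (hq : 4 ≤ q) (hrig : TorusRigid F q) (hN : 4 ≤ N) (U : ℕ → Subgroup G)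
    (hcomm : ∀ i j, i + 2 ≤ j → j + 2 ≤ N → ∀ x ∈ U i, ∀ y ∈ U j, Commute x y)
    (hpair : ∀ a, a + 3 ≤ N → ∃ ψ : Win F q (seg N a (a + 3)) →* G, StdPair U a ψ)
    (hgen : ∀ H : Subgroup G, (∀ a, a + 2 ≤ N → U a ≤ H) → H = ⊤) :
    ∃ f : SU N F q →* G, Function.Surjective f := by
  classical
  have key : ∀ m, ∃ ψ : ∀ a : ℕ, Win F q (seg N a (a + 3)) →* G,
      (∀ a, a + 3 ≤ N → StdPair U a (ψ a)) ∧ ∀ a, a + 4 ≤ N → a < m →
        ∀ g (h : g ∈ Win F q (seg N a (a + 3)))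
          (h' : g ∈ Win F q (seg N (a + 1) (a + 1 + 3))), ψ a ⟨g, h⟩ = ψ (a + 1) ⟨g, h'⟩ := by
    intro m
    induction m with
    | zero =>
      exact ⟨fun a => if h : a + 3 ≤ N then (hpair a h).choose else 1,
        fun a h => by simp only [dif_pos h]; exact (hpair a h).choose_spec, fun a _ h => absurd h (by omega)⟩
    | succ m ih =>
      obtain ⟨ψ, hgood, hag⟩ := ih
      by_cases hm : m + 4 ≤ N
      · obtain ⟨χ, hχ, hag'⟩ := exists_agree hF (by omega) hrig hm
          (fun x hx y hy => hcomm m (m + 2) le_rfl (by omega) x hx y hy)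
          (hgood m (by omega)) (hgood (m + 1) (by omega))
        refine ⟨Function.update ψ (m + 1) χ, fun a ha => ?_, fun a ha ha' g h h' => ?_⟩
        · by_cases e : a = m + 1
          · subst e; rw [Function.update_self]; exact hχ
          · rw [Function.update_of_ne e]; exact hgood a ha
        · rw [Function.update_of_ne (show a ≠ m + 1 by omega)]
          by_cases e : a = m
          · subst e; rw [Function.update_self]; exact hag' g h h'
          · rw [Function.update_of_ne (show a + 1 ≠ m + 1 by omega)]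
            exact hag a ha (by omega) g h h'
      · exact ⟨ψ, hgood, fun a ha ha' => hag a ha (by omega)⟩
  obtain ⟨ψ, hgood, hag⟩ := key N
  have hab := fun a (ha : a + 4 ≤ N) => hag a ha (by omega)
  have hc : ∀ a b c, a + 3 ≤ N → b + 3 ≤ N → ∀ (g : Win F q (seg N a (a + 3)))
      (g' : Win F q (seg N b (b + 3))), g.1 ∈ Win F q (seg N 0 c) → g'.1 ∈ Win F q (seg N c N) →
      Commute (ψ a g) (ψ b g') := by
    intro a b c ha hb g g' hg hg'
    have h1 := image_le hF (by omega) ha (hgood a ha) hg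
    have h2 := image_le hF (by omega) hb (hgood b hb) hg'
    have hle : (⨆ (i : ℕ) (_ : c ≤ i ∧ i + 2 ≤ N ∧ b ≤ i ∧ i + 2 ≤ b + 3), U i) ≤
        Subgroup.centralizer
          (↑(⨆ (i : ℕ) (_ : 0 ≤ i ∧ i + 2 ≤ c ∧ a ≤ i ∧ i + 2 ≤ a + 3), U i) : Set G) := by
      refine iSup₂_le fun j hj => ?_
      rw [Subgroup.le_centralizer_iff]
      refine iSup₂_le fun i hi => ?_
      rw [Subgroup.le_centralizer_iff]
      exact fun y hy x hx => hcomm i j (by omega) (by omega) x hx y hy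
    exact hle h2 _ h1
  refine build hF hN ψ (fun H hH => hgen H fun a ha => ?_) hc
    fun a ha => exists_quad hF hq ψ hab hc ha
  rcases Nat.lt_or_ge a (N - 2) with h | h
  · rw [← (hgood a (by omega)).left]
    exact (Subgroup.map_le_range _ _).trans (hH a (by omega))
  · obtain ⟨b, rfl⟩ : ∃ b, a = b + 1 := ⟨a - 1, by omega⟩
    rw [← (hgood b (by omega)).right]
    exact (Subgroup.map_le_range _ _).trans (hH b (by omega))

end H41.Phan
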